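import Cfsg.Agent.Char.Glauberman.Bridge
import Cfsg.Agent.Char.Gallagher
import Cfsg.Agent.ProjExt.Data

/-!
Multiplicities of restrictions under pullback along a surjection and under multiplication by an
extended character.
-/

set_option autoImplicit false

namespace Cfsg.Agent.Char.OddCorr

open Cfsg.Agent.Char.Glauberman
open scoped ComplexConjugate

universe u

variable {E G : Type u} [Group E] [Fintype E] [Group G] [Fintype G]

theorem exists_desc (f : E →* G) (hf : Function.Surjective f) (χh : IrrCharacter E)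
    (h : ∀ z ∈ f.ker, (χh : E → ℂ) z = (χh : E → ℂ) 1) :
    ∃ χ : IrrCharacter G, ∀ e, (χh : E → ℂ) e = (χ : G → ℂ) (f e) := by
  obtain ⟨φ, hφ, he⟩ := IsIrr.exists_quotient f.ker χh.2 h
  set q := QuotientGroup.quotientKerEquivOfSurjective f hf
  refine ⟨irrEquiv q.symm ⟨φ, hφ⟩, fun e => ?_⟩
  show _ = φ (q.symm (f e))
  rw [show f e = q (QuotientGroup.mk e) from rfl, MulEquiv.symm_apply_apply, he]

theorem mult_map (f : E →* G) (hf : Function.Surjective f) (H : Subgroup G) [Fintype H]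
    (Hh : Subgroup E) [Fintype Hh] (hH : ∀ e, e ∈ Hh ↔ f e ∈ H) (χ : IrrCharacter G)
    (ψ : IrrCharacter H) (χh : IrrCharacter E) (ψh : IrrCharacter Hh)
    (hχ : ∀ e, (χh : E → ℂ) e = (χ : G → ℂ) (f e))
    (hψ : ∀ e : Hh, (ψh : Hh → ℂ) e = (ψ : H → ℂ) ⟨f e, (hH e).1 e.2⟩) :
    mult Hh χh ψh = mult H χ ψ := by
  classical
  let g : Hh →* H := MonoidHom.mk' (fun e => ⟨f e, (hH e).1 e.2⟩)
    fun x y => Subtype.ext (map_mul f _ _)
  have hg : Function.Surjective g := fun y => by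
    obtain ⟨e, he⟩ := hf (y : G)
    exact ⟨⟨e, (hH e).2 (he ▸ y.2)⟩, Subtype.ext he⟩
  let pb : IrrCharacter H → IrrCharacter Hh := fun ψ' =>
    ⟨fun e => (ψ' : H → ℂ) (g e), isIrrCharacter_comp g hg ψ'.2⟩
  have hpb : Function.Injective pb := fun x y h => Subtype.ext (funext fun b => by
    obtain ⟨e, rfl⟩ := hg b
    exact congrFun (congrArg Subtype.val h) e)
  have hψh : ψh = pb ψ := Subtype.ext (funext hψ)
  have h1 : (fun e : Hh => (χh : E → ℂ) e) =
      ∑ ψ' : IrrCharacter H, (mult H χ ψ' : ℂ) • (pb ψ' : Hh → ℂ) := by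
    funext e
    rw [Finset.sum_apply, hχ]
    show (χ : G → ℂ) ((g e : H) : G) = _
    rw [res_eq_sum H χ (g e)]
    rfl
  have h2 := mult_spec Hh χh ψh
  rw [h1, classInner_sum_left, Finset.sum_eq_single ψ] at h2
  · rw [classInner_smul_left, hψh, classInner_irr_self (pb ψ).2, mul_one] at h2
    rw [hψh]
    exact_mod_cast h2.symm
  · intro ψ' _ hne
    rw [classInner_smul_left, hψh,
      classInner_irr_ne (pb ψ').2 (pb ψ).2 fun e => hne (hpb (Subtype.ext e)), mul_zero]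
  · exact fun h => absurd (Finset.mem_univ ψ) h

section Gallagher

variable (M : Subgroup E) [M.Normal] [Fintype M] {Φ : E → ℂ}

theorem gal_eq (hΦ : IsIrrCharacter E Φ) (hM : IsIrrCharacter M (fun n : M => Φ n))
    {β β' : E → ℂ} (hβ : IsCharacter E β) (hβ' : IsCharacter E β')
    (hβM : ∀ n ∈ M, β n = β 1) (hβM' : ∀ n ∈ M, β' n = β' 1) (h : β * Φ = β' * Φ) : β = β' := by
  have key : ∀ γ : E → ℂ, IsCharacter E γ → (∀ n ∈ M, γ n = γ 1) →
      galEta M Φ (γ * Φ) = γ := by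
    intro γ hγ hγM
    funext g
    have h3 := avg_normSq_eq_one M hΦ hM g
    simp only [galEta, Pi.mul_apply, IsChar.mul_left_of_mem_kernel hγ (hγM _ (SetLike.coe_mem _)),
      mul_assoc, ← Finset.mul_sum]
    rw [mul_left_comm, h3, mul_one]
  rw [← key β hβ hβM, ← key β' hβ' hβM', h]

theorem gal_mult (hΦ : IsIrrCharacter E Φ) (hM : IsIrrCharacter M (fun n : M => Φ n))
    (H : Subgroup E) [Fintype H] (hMH : M ≤ H) (χ β : IrrCharacter E) (ψ γ : IrrCharacter H)
    (hβM : ∀ n ∈ M, (β : E → ℂ) n = (β : E → ℂ) 1)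
    (hγM : ∀ n : H, (n : E) ∈ M → (γ : H → ℂ) n = (γ : H → ℂ) 1)
    (hχ : ∀ e, (χ : E → ℂ) e = (β : E → ℂ) e * Φ e)
    (hψ : ∀ e : H, (ψ : H → ℂ) e = (γ : H → ℂ) e * Φ e) :
    mult H χ ψ = mult H β γ := by
  classical
  haveI : (M.subgroupOf H).Normal := Subgroup.normal_subgroupOf
  letI := Fintype.ofFinite (M.subgroupOf H)
  have hMH' : IsIrrCharacter (M.subgroupOf H) (fun n : M.subgroupOf H => Φ ((n : H) : E)) :=
    (isIrrCharacter_comp_equiv (Subgroup.subgroupOfEquivOfLe hMH)).2 hM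
  set ΦH : H → ℂ := fun e => Φ e with hΦHdef
  have hΦH : IsIrrCharacter H ΦH :=
    ProjExt.isIrr_of_res (N := M.subgroupOf H) (isCharacter_res H (IsIrr.isCharacter hΦ)) hMH'
      fun _ => rfl
  have hconst : ∀ γ' : IrrCharacter H, mult H β γ' ≠ 0 →
      ∀ n ∈ M.subgroupOf H, (γ' : H → ℂ) n = (γ' : H → ℂ) 1 := fun γ' hne n hn =>
    IsChar.constituent_kernel (isCharacter_res H (IsIrr.isCharacter β.2)) γ'.2
      (by rw [mult_spec]; exact_mod_cast hne) (hβM n (Subgroup.mem_subgroupOf.1 hn))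
  have h1 : (fun e : H => (χ : E → ℂ) e) =
      ∑ γ' : IrrCharacter H, (mult H β γ' : ℂ) • ((γ' : H → ℂ) * ΦH) := by
    funext e
    rw [Finset.sum_apply, hχ, res_eq_sum H β e, Finset.sum_mul]
    refine Finset.sum_congr rfl fun γ' _ => ?_
    simp only [Pi.smul_apply, Pi.mul_apply, smul_eq_mul, mul_assoc, hΦHdef]
  have h2 := mult_spec H χ ψ
  have hψe : (ψ : H → ℂ) = (γ : H → ℂ) * ΦH := funext hψ
  rw [h1, classInner_sum_left, Finset.sum_eq_single γ] at h2
  · rw [classInner_smul_left, ← hψe, classInner_irr_self ψ.2, mul_one] at h2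
    exact_mod_cast h2.symm
  · intro γ' _ hne
    rw [classInner_smul_left]
    by_cases h0 : mult H β γ' = 0
    · rw [h0, Nat.cast_zero, zero_mul]
    rw [hψe, classInner_irr_ne (isIrr_mul_of_res_irr (M.subgroupOf H) hΦH hMH' γ'.2 (hconst γ' h0))
      (isIrr_mul_of_res_irr (M.subgroupOf H) hΦH hMH' γ.2 fun n hn =>
        hγM n (Subgroup.mem_subgroupOf.1 hn)) fun e => hne (Subtype.ext
      (gal_eq (M.subgroupOf H) hΦH hMH' (IsIrr.isCharacter γ'.2) (IsIrr.isCharacter γ.2)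
        (hconst γ' h0) (fun n hn => hγM n (Subgroup.mem_subgroupOf.1 hn)) e)), mul_zero]
  · exact fun h => absurd (Finset.mem_univ γ) h

end Gallagher

end Cfsg.Agent.Char.OddCorr
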