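import Cfsg.Agent.Char.OddCorr.Ext
import Cfsg.Agent.Char.OddCorr.Pull
import Cfsg.Agent.Char.Glauberman.Equivariant
import Cfsg.Agent.Char.Glauberman.Relative

/-!
Coprime operators acting trivially above a normal subgroup fix every character lying over a fixed
invariant character.
-/

set_option autoImplicit false

namespace Cfsg.Agent.Char.OddCorr

open Subgroup Cfsg.Agent.Char.Glauberman

universe u v

variable {G : Type u} [Group G] {A : Type v} [Group A]

/-- A coprime operator moving an element by a fixed element fixes it. -/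
theorem apply_eq_of_fixed_shift [Finite G] [Finite A] (b : A →* MulAut G)
    (hcop : (Nat.card G).Coprime (Nat.card A)) (t : A) {z e : G} (hz : b t z = z)
    (he : b t e = z * e) : b t e = e := by
  have key : ∀ k : ℕ, b (t ^ k) e = z ^ k * e := by
    intro k
    induction k with
    | zero => simp
    | succ k ih =>
      rw [pow_succ', map_mul, MulAut.mul_apply, ih, map_mul, map_pow, hz, he, ← mul_assoc,
        ← pow_succ]
  have h1 := key (orderOf t)
  rw [pow_orderOf_eq_one, map_one, MulAut.one_apply, eq_comm, mul_eq_right] at h1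
  have h2 : orderOf z ∣ Nat.gcd (Nat.card G) (Nat.card A) :=
    Nat.dvd_gcd (orderOf_dvd_natCard z)
      ((orderOf_dvd_of_pow_eq_one h1).trans (orderOf_dvd_natCard t))
  rw [hcop.gcd_eq_one, Nat.dvd_one, orderOf_eq_one_iff] at h2
  rw [he, h2, one_mul]

/-- A central element multiplies the values of a character and of its constituents by the same
scalar. -/
theorem central_ratio [Fintype G] (H : Subgroup G) [Fintype H] (χ : IrrCharacter G)
    (β : IrrCharacter H) (hne : mult H χ β ≠ 0) (z : H) (hz : (z : G) ∈ center G) :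
    (χ : G → ℂ) z * (β : H → ℂ) 1 = (β : H → ℂ) z * (χ : G → ℂ) 1 := by
  classical
  have hχ1 := IsIrr.one_ne_zero χ.2
  have hβ1 := IsIrr.one_ne_zero β.2
  have hzH : ∀ x : H, z * x = x * z := fun x =>
    Subtype.ext (mem_center_iff.mp hz x).symm
  have e1 := mult_spec H χ β
  have hne' : (mult H χ β : ℂ) ≠ 0 := by exact_mod_cast hne
  set F : ℂ := ∑ c : H, (χ : G → ℂ) c * (starRingEnd ℂ) ((β : H → ℂ) c) with hF
  have hF0 : F ≠ 0 := fun h0 => hne' (by rw [← e1, classInner, ← hF, h0, mul_zero])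
  have h1 : ∀ c : H, (χ : G → ℂ) 1 * (χ : G → ℂ) ((c : G) * z) = (χ : G → ℂ) z * (χ : G → ℂ) c :=
    fun c => mul_central χ.2 z (fun x => (mem_center_iff.mp hz x).symm) c
  have h2 : ∀ c : H, (β : H → ℂ) 1 * (β : H → ℂ) (c * z⁻¹) = (β : H → ℂ) z⁻¹ * (β : H → ℂ) c :=
    fun c => mul_central β.2 z⁻¹ (fun x => by
      rw [inv_mul_eq_iff_eq_mul, ← mul_assoc, hzH x, mul_inv_cancel_right]) c
  obtain ⟨m, hm⟩ := IsChar.degree (IsIrr.isCharacter β.2)
  have hconj1 : (starRingEnd ℂ) ((β : H → ℂ) 1) = (β : H → ℂ) 1 := by rw [hm, map_natCast]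
  have hconjz : (starRingEnd ℂ) ((β : H → ℂ) z⁻¹) = (β : H → ℂ) z := by
    rw [← IsChar.inv_eq_conj (IsIrr.isCharacter β.2), inv_inv]
  have key : (β : H → ℂ) 1 * ((χ : G → ℂ) z * F) = (χ : G → ℂ) 1 * ((β : H → ℂ) z * F) := by
    have e2 : (χ : G → ℂ) z * F =
        (χ : G → ℂ) 1 * ∑ c : H, (χ : G → ℂ) ((c : G) * z) * (starRingEnd ℂ) ((β : H → ℂ) c) := by
      simp only [hF, Finset.mul_sum, ← mul_assoc, h1]
    have e3 : ∑ c : H, (χ : G → ℂ) ((c : G) * z) * (starRingEnd ℂ) ((β : H → ℂ) c) =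
        ∑ c : H, (χ : G → ℂ) c * (starRingEnd ℂ) ((β : H → ℂ) (c * z⁻¹)) :=
      Fintype.sum_equiv (Equiv.mulRight z) _ _ fun c => by simp
    have e4 : (β : H → ℂ) 1 * ∑ c : H, (χ : G → ℂ) c * (starRingEnd ℂ) ((β : H → ℂ) (c * z⁻¹)) =
        (β : H → ℂ) z * F := by
      rw [hF, Finset.mul_sum, Finset.mul_sum]
      refine Finset.sum_congr rfl fun c _ => ?_
      have := congrArg (starRingEnd ℂ) (h2 c)
      rw [map_mul, map_mul, hconj1, hconjz] at this
      linear_combination (χ : G → ℂ) c * this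
    rw [e2, e3, mul_left_comm, e4]
  rw [← mul_assoc, ← mul_assoc, mul_left_inj' hF0] at key
  linear_combination key

variable [Fintype G] [Finite A]

/-- Operators trivial on `G ⧸ K` fixing an invariant `θ` fix all characters over `θ`. -/
theorem invFun_of_trivial_quotient (a : A →* MulAut G) (K : Subgroup G) [hKn : K.Normal] [Fintype K]
    (hK : ∀ (t : A), ∀ k ∈ K, a t k ∈ K) (hcop : (Nat.card G).Coprime (Nat.card A))
    (htriv : ∀ t g, a t g * g⁻¹ ∈ K) (θ : IrrCharacter K)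
    (hθ : InvFun (restrictOp a K hK) (θ : K → ℂ))
    (hθG : ∀ (g : G) (n : K), (θ : K → ℂ) ⟨g * n * g⁻¹, hKn.conj_mem (n : G) n.2 g⟩ = (θ : K → ℂ) n)
    (χ : IrrCharacter G) (hover : mult K χ θ ≠ 0) : InvFun a (χ : G → ℂ) := by
  classical
  obtain ⟨T⟩ := exists_tripleExt a K hK θ.2 hθG hθ
  letI := Fintype.ofFinite T.E
  let M : Subgroup T.E := T.i.range
  haveI hMn : M.Normal := ⟨by
    rintro _ ⟨n, rfl⟩ e
    exact ⟨⟨T.π e * n * (T.π e)⁻¹, hKn.conj_mem (n : G) n.2 _⟩, (T.conj_i e n _ rfl).symm⟩⟩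
  letI := Fintype.ofFinite M
  have hinj : Function.Injective T.i := fun x y h => Subtype.ext (by rw [← T.π_i x, h, T.π_i])
  let eM : K ≃* M := MonoidHom.ofInjective hinj
  have hM : IsIrrCharacter M (fun n : M => T.Φ n) := by
    refine (isIrrCharacter_comp_equiv eM).1 ?_
    rw [show (fun n : K => T.Φ (eM n : M)) = (θ : K → ℂ) from funext T.Φ_res]
    exact θ.2
  have hψ : IsIrrCharacter T.E (fun e => (χ : G → ℂ) (T.π e)) :=
    isIrrCharacter_comp T.π T.surj χ.2
  have hne : classInner (fun n : M => (χ : G → ℂ) (T.π n)) (fun n : M => T.Φ n) ≠ 0 := by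
    rw [classInner, ← Nat.card_congr eM.toEquiv]
    rw [show ∑ g : M, (χ : G → ℂ) (T.π g) * (starRingEnd ℂ) (T.Φ g) =
      ∑ k : K, (χ : G → ℂ) k * (starRingEnd ℂ) ((θ : K → ℂ) k) from
      (Fintype.sum_equiv eM.toEquiv _ _ fun k => by
        show (χ : G → ℂ) k * _ = (χ : G → ℂ) (T.π (T.i k)) * (starRingEnd ℂ) (T.Φ (T.i k))
        rw [T.π_i, T.Φ_res]).symm]
    have h1 := mult_spec K χ θ
    rw [classInner] at h1
    rw [h1]
    exact_mod_cast hover
  obtain ⟨hη, hηM, hfac⟩ := (gallagher M T.Φ_irr hM hψ).1 hne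
  set η := galEta M T.Φ fun e => (χ : G → ℂ) (T.π e)
  have hcopE : (Nat.card T.E).Coprime (Nat.card A) :=
    (hcop.pow_left 3).coprime_dvd_left T.card_dvd
  intro t g
  obtain ⟨e, rfl⟩ := T.surj g
  rw [← T.π_b]
  have hb : η (T.b t e) = η e := by
    have hM' : ∀ (s : A), ∀ n ∈ M, T.b s n ∈ M := by
      rintro s _ ⟨n, rfl⟩
      exact ⟨_, (T.b_i s n).symm⟩
    set k : K := ⟨a t (T.π e) * (T.π e)⁻¹, htriv t _⟩
    set z : T.E := (T.i k)⁻¹ * (T.b t e * e⁻¹) with hzdef
    have hz : z ∈ T.π.ker := by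
      rw [MonoidHom.mem_ker, hzdef]
      simp only [map_mul, map_inv, T.π_i, T.π_b, k, inv_mul_cancel]
    have he : T.b t e = T.i k * z * e := by rw [hzdef]; group
    have h1 := apply_eq_of_fixed_shift (quotOp T.b M hM')
      (hcopE.coprime_dvd_left (Subgroup.card_quotient_dvd_card M)) t
      (z := (z : T.E ⧸ M)) (e := (e : T.E ⧸ M)) (by rw [quotOp_mk, T.b_ker t z hz]) (by
        rw [quotOp_mk, ← QuotientGroup.mk_mul, he, mul_assoc, QuotientGroup.mk_mul,
          (QuotientGroup.eq_one_iff (N := M) (T.i k)).2 ⟨k, rfl⟩, one_mul])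
    rw [quotOp_mk, QuotientGroup.eq] at h1
    have h2 := IsChar.mul_left_of_mem_kernel (IsIrr.isCharacter hη)
      (hηM _ (hMn.conj_mem _ h1 (T.b t e))) (T.b t e)
    rw [← h2]
    group
  calc (χ : G → ℂ) (T.π (T.b t e)) = η (T.b t e) * T.Φ (T.b t e) := congrFun hfac (T.b t e)
    _ = η e * T.Φ e := by rw [hb, T.Φ_b]
    _ = (χ : G → ℂ) (T.π e) := (congrFun hfac e).symm

end Cfsg.Agent.Char.OddCorr
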