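import Cfsg.Agent.Char.OddCorr.Inversion
import Cfsg.Agent.Char.OddCorr.Trivial
import Cfsg.Agent.Char.Glauberman.Statement

/-!
The odd-multiplicity correspondence in the central situation.
-/

set_option autoImplicit false

namespace Cfsg.Agent.Char.OddCorr

open Subgroup Cfsg.Agent.Char.Glauberman

universe u v

variable {G : Type u} [Group G] [Fintype G] {A : Type v} [Group A] [Finite A]
  {a : A →* MulAut G} {K Z : Subgroup G}

theorem odd_iff_cast_ne_zero (m : ℕ) : Odd m ↔ (m : ZMod 2) ≠ 0 := by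
  rw [Ne, ZMod.natCast_eq_zero_iff, Nat.odd_iff, Nat.dvd_iff_mod_eq_zero]
  omega

/-- The Glauberman correspondence for two-groups of operators on a group of odd order. -/
theorem corr_of_fixed_eq {B : Type v} [Group B] (op : B →* MulAut G) (hB : IsPGroup 2 B)
    (hodd : Odd (Nat.card G)) (H : Subgroup G) [Fintype H] (hH : H = Fixed op) :
    (∀ χ : IrrCharacter G, InvFun op (χ : G → ℂ) → ∃! β : IrrCharacter H, Odd (mult H χ β)) ∧
    (∀ χ χ' : IrrCharacter G, InvFun op (χ : G → ℂ) → InvFun op (χ' : G → ℂ) →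
      ∀ β, Odd (mult H χ β) → Odd (mult H χ' β) → χ = χ') ∧
    (∀ β : IrrCharacter H, ∃ χ : IrrCharacter G, InvFun op (χ : G → ℂ) ∧ Odd (mult H χ β)) := by
  subst hH
  haveI : Fact (Nat.Prime 2) := ⟨Nat.prime_two⟩
  obtain ⟨h1, h2, h3⟩ := isCorr_of_coprime (p := 2) (a := op) hB
    (fun h => (Nat.not_even_iff_odd.2 hodd) (even_iff_two_dvd.2 h))
  simp only [vec] at h1 h2 h3
  simp only [odd_iff_cast_ne_zero]
  exact ⟨fun χ hχ => (h1 χ hχ).1, h2, h3⟩

/-- An invariant character over `lam` on the class two part is unique. -/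
theorem invariant_unique (h : Setting a K Z) (lam : Z →* ℂˣ) [Fintype K] (θ θ' : IrrCharacter K)
    (hθ : InvFun (restrictOp a K h.inv) (θ : K → ℂ))
    (hθ' : InvFun (restrictOp a K h.inv) (θ' : K → ℂ))
    (hl : ∀ z : Z, (θ : K → ℂ) ⟨z, h.le z.2⟩ = (lam z : ℂ) * (θ : K → ℂ) 1)
    (hl' : ∀ z : Z, (θ' : K → ℂ) ⟨z, h.le z.2⟩ = (lam z : ℂ) * (θ' : K → ℂ) 1) : θ = θ' := by
  classical
  haveI := Fintype.ofFinite A
  let N : Subgroup K := Z.subgroupOf K
  haveI : N.Normal := ⟨fun n hn g => by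
    show ((g * n * g⁻¹ : K) : G) ∈ Z
    push_cast
    rw [mem_center_iff.mp (h.central (show (n : G) ∈ Z from hn)) g, mul_inv_cancel_right]
    exact hn⟩
  letI := Fintype.ofFinite N
  let lN : N →* ℂˣ := lam.comp (MonoidHom.mk' (fun n => ⟨((n : K) : G), n.2⟩) fun _ _ => rfl)
  let η : IrrCharacter N := ⟨fun n => (lN n : ℂ), isIrrCharacter_hom lN⟩
  have hab : ∀ x y : K, x * y * x⁻¹ * y⁻¹ ∈ N := fun x y => by
    show ((x * y * x⁻¹ * y⁻¹ : K) : G) ∈ Z
    have := h.comm x x.2 y y.2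
    rw [commutatorElement_def] at this
    exact_mod_cast this
  have hmult : ∀ ψ : IrrCharacter K, (∀ z : Z, (ψ : K → ℂ) ⟨z, h.le z.2⟩ =
      (lam z : ℂ) * (ψ : K → ℂ) 1) → mult N ψ η ≠ 0 := by
    intro ψ hψ e0
    have h1 := mult_spec N ψ η
    rw [e0, Nat.cast_zero] at h1
    have h2 : (fun n : N => (ψ : K → ℂ) n) = (ψ : K → ℂ) 1 • (η : N → ℂ) := by
      funext n
      show (ψ : K → ℂ) ⟨((n : K) : G), _⟩ = _
      rw [Pi.smul_apply, smul_eq_mul, mul_comm]
      exact hψ ⟨((n : K) : G), n.2⟩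
    rw [h2, classInner_smul_left, classInner_irr_self η.2, mul_one] at h1
    exact IsIrr.one_ne_zero ψ.2 h1
  obtain ⟨l, hlθ⟩ := exists_linear_twist N hab η θ θ' (hmult θ hl) (hmult θ' hl')
  letI : CommGroup (K ⧸ N) :=
    { (inferInstance : Group (K ⧸ N)) with
      mul_comm := fun x y => QuotientGroup.induction_on x fun x => QuotientGroup.induction_on y
        fun y => QuotientGroup.eq.2 (by
          show (x * y)⁻¹ * (y * x) ∈ N
          have := hab y⁻¹ x⁻¹
          rwa [show (x * y)⁻¹ * (y * x) = y⁻¹ * x⁻¹ * y⁻¹⁻¹ * x⁻¹⁻¹ by group]) }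
  have hN : ∀ (t : A), ∀ n ∈ N, restrictOp a K h.inv t n ∈ N := fun t n hn => by
    show a t (n : G) ∈ Z
    rw [h.fixed (show (n : G) ∈ Z from hn) t]
    exact hn
  refine Subtype.ext (funext fun k => ?_)
  rw [hlθ k]
  by_cases h0 : (θ : K → ℂ) k = 0
  · rw [h0, mul_zero]
  have hval : ∀ t : A, l ((restrictOp a K h.inv t k : K) : K ⧸ N) = l (k : K ⧸ N) := fun t => by
    have e := hθ' t k
    rw [hlθ, hlθ, hθ t k] at e
    exact Units.ext (mul_right_cancel₀ h0 e)
  set q : K ⧸ N := ∏ t : A, ((restrictOp a K h.inv t k : K) : K ⧸ N) with hq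
  have hqfix : ∀ s : A, quotOp (restrictOp a K h.inv) N hN s q = q := fun s => by
    rw [hq, map_prod]
    refine Fintype.prod_equiv (Equiv.mulLeft s) _ _ fun t => ?_
    rw [quotOp_mk, ← MulAut.mul_apply, ← map_mul]
    rfl
  obtain ⟨u, hu⟩ := QuotientGroup.mk_surjective q
  have huZ : u ∈ N := by
    show (u : G) ∈ Z
    rw [← h.fixed_inter]
    refine ⟨u.2, fun s => ?_⟩
    have h1 := hqfix s
    rw [← hu, quotOp_mk, QuotientGroup.eq] at h1
    have h1' : (a s (u : G))⁻¹ * u ∈ Z := h1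
    refine apply_eq_of_fixed_shift a h.cop s (z := a s (u : G) * (u : G)⁻¹) (h.fixed ?_ s)
      (inv_mul_cancel_right _ _).symm
    have e : a s (u : G) * (u : G)⁻¹ = ((a s (u : G))⁻¹ * u)⁻¹ := by
      have hc := mem_center_iff.mp (h.central (Z.inv_mem h1')) (u : G)
      rw [mul_inv_rev, inv_inv] at hc ⊢
      calc a s (u : G) * (u : G)⁻¹ = (u : G) * ((u : G)⁻¹ * a s (u : G)) * (u : G)⁻¹ := by group
        _ = _ := by rw [hc, mul_inv_cancel_right]
    rw [e]
    exact Z.inv_mem h1'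
  have hone : l (k : K ⧸ N) ^ Nat.card A = 1 := by
    have e : l q = l (k : K ⧸ N) ^ Nat.card A := by
      rw [hq, map_prod, Finset.prod_congr rfl fun t _ => hval t, Finset.prod_const,
        Finset.card_univ, Nat.card_eq_fintype_card]
    rw [← e, ← hu, (QuotientGroup.eq_one_iff u).2 huZ, map_one]
  have hord : l (k : K ⧸ N) = 1 := by
    have h2 : orderOf (l (k : K ⧸ N)) ∣ Nat.gcd (Nat.card G) (Nat.card A) := by
      refine Nat.dvd_gcd ?_ (orderOf_dvd_of_pow_eq_one hone)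
      exact ((orderOf_map_dvd (l.comp (QuotientGroup.mk' N)) k).trans (orderOf_dvd_natCard k)).trans
        (Subgroup.card_subgroup_dvd_card K)
    rwa [h.cop.gcd_eq_one, Nat.dvd_one, orderOf_eq_one_iff] at h2
  rw [hord, Units.val_one, one_mul]

/-- The correspondence in the central situation. -/
theorem core (h : Setting a K Z) (lam : Z →* ℂˣ) (hsol : Group.IsSolvable G) [Fintype (Fixed a)] :
    (∀ χ : IrrCharacter G, InvFun a (χ : G → ℂ) →
      (∀ z : Z, (χ : G → ℂ) z = (lam z : ℂ) * (χ : G → ℂ) 1) →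
      ∃! β : IrrCharacter (Fixed a), Odd (mult (Fixed a) χ β)) ∧
    (∀ χ χ' : IrrCharacter G, InvFun a (χ : G → ℂ) → InvFun a (χ' : G → ℂ) →
      (∀ z : Z, (χ : G → ℂ) z = (lam z : ℂ) * (χ : G → ℂ) 1) →
      (∀ z : Z, (χ' : G → ℂ) z = (lam z : ℂ) * (χ' : G → ℂ) 1) →
      ∀ β, Odd (mult (Fixed a) χ β) → Odd (mult (Fixed a) χ' β) → χ = χ') ∧
    (∀ β : IrrCharacter (Fixed a),
      (∀ z : Z, (β : Fixed a → ℂ) ⟨z, fun t => h.fixed z.2 t⟩ = (lam z : ℂ) * (β : Fixed a → ℂ) 1) →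
      ∃ χ : IrrCharacter G, InvFun a (χ : G → ℂ) ∧
        (∀ z : Z, (χ : G → ℂ) z = (lam z : ℂ) * (χ : G → ℂ) 1) ∧
        Odd (mult (Fixed a) χ β)) := by
  classical
  haveI := h.normal
  obtain ⟨ι, hι2, hιcomm, hιfix, hιK⟩ := exists_inversion h
  set T : Subgroup (MulAut G) := Subgroup.zpowers ι with hT
  have hTmem : ∀ t ∈ T, t = 1 ∨ t = ι := by
    rintro t ⟨n, rfl⟩
    obtain ⟨m, rfl | rfl⟩ := Int.even_or_odd' n
    · left
      show ι ^ (2 * m) = 1
      rw [zpow_mul, zpow_two, hι2, one_zpow]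
    · right
      show ι ^ (2 * m + 1) = ι
      rw [zpow_add_one, zpow_mul, zpow_two, hι2, one_zpow, one_mul]
  have hTcard : Nat.card T ∣ 2 := by
    rw [hT, Nat.card_zpowers]
    exact orderOf_dvd_of_pow_eq_one (by rw [pow_two, hι2])
  obtain ⟨j, -, hj⟩ := (Nat.dvd_prime_pow Nat.prime_two (m := 1)).1 ((pow_one 2).symm ▸ hTcard)
  have hTp : IsPGroup 2 T := IsPGroup.of_card hj
  have hinvT : ∀ f : G → ℂ, (∀ g, f (ι g) = f g) → InvFun T.subtype f := fun f hf t g => by
    show f ((t : MulAut G) g) = f g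
    rcases hTmem t t.2 with e | e <;> rw [e]
    · rfl
    · exact hf g
  have hιT : ι ∈ T := Subgroup.mem_zpowers ι
  have hfix : Fixed a = Fixed T.subtype := by
    ext g
    rw [← hιfix g]
    refine ⟨fun e t => ?_, fun e => e ⟨ι, hιT⟩⟩
    show (t : MulAut G) g = g
    rcases hTmem t t.2 with e' | e' <;> rw [e']
    · rfl
    · exact e
  obtain ⟨h1, h2, h3⟩ := corr_of_fixed_eq T.subtype hTp h.odd (Fixed a) hfix
  -- invariance under the operators gives invariance under the inversion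
  have toι : ∀ χ : IrrCharacter G, InvFun a (χ : G → ℂ) →
      (∀ z : Z, (χ : G → ℂ) z = (lam z : ℂ) * (χ : G → ℂ) 1) → InvFun T.subtype (χ : G → ℂ) := by
    intro χ hχ hov
    letI := Fintype.ofFinite K
    obtain ⟨θ, hne, hθ⟩ := exists_inv_constituent a K h.inv
      (h.cop.coprime_dvd_left (Subgroup.index_dvd_card K))
      (Or.inr (Group.isSolvable_of_surjective (QuotientGroup.mk'_surjective K))) χ hχ
    have hlθ : ∀ z : Z, (θ : K → ℂ) ⟨z, h.le z.2⟩ = (lam z : ℂ) * (θ : K → ℂ) 1 := fun z => by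
      have e := central_ratio K χ θ hne ⟨z, h.le z.2⟩ (h.central z.2)
      have e' := hov z
      refine mul_right_cancel₀ (IsIrr.one_ne_zero χ.2) ?_
      rw [← e]
      show (χ : G → ℂ) z * _ = _
      rw [e']
      ring
    have hθG : ∀ (g : G) (n : K), (θ : K → ℂ) ⟨g * n * g⁻¹, h.normal.conj_mem (n : G) n.2 g⟩ =
        (θ : K → ℂ) n := by
      intro g n
      obtain ⟨k, hk, c, hc, rfl⟩ := mem_sup_of_normal_left.1 (h.sup ▸ mem_top g : g ∈ K ⊔ Fixed a)
      let θc : IrrCharacter K := ⟨conjFun c (θ : K → ℂ), isIrr_conjFun c θ.2⟩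
      have hcz : ∀ z : Z, c * z * c⁻¹ = (z : G) := fun z => by
        rw [mem_center_iff.mp (h.central z.2) c, mul_inv_cancel_right]
      have e : θ = θc := invariant_unique h lam θ θc hθ (fun t x => by
          show (θ : K → ℂ) ⟨c * a t x * c⁻¹, _⟩ = (θ : K → ℂ) ⟨c * x * c⁻¹, _⟩
          rw [← hθ t ⟨c * x * c⁻¹, h.normal.conj_mem (x : G) x.2 c⟩]
          refine congrArg (θ : K → ℂ) (Subtype.ext ?_)
          show c * a t x * c⁻¹ = a t (c * x * c⁻¹)
          rw [map_mul, map_mul, map_inv, hc t]) hlθ fun z => by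
            show (θ : K → ℂ) _ = _ * conjFun c (θ : K → ℂ) 1
            rw [conjFun_apply_one, ← hlθ z]
            exact congrArg (θ : K → ℂ) (Subtype.ext (hcz z))
      have h4 : (θ : K → ℂ) ⟨c * n * c⁻¹, h.normal.conj_mem (n : G) n.2 c⟩ = (θ : K → ℂ) n := by
        conv_rhs => rw [e]
        rfl
      rw [← h4, ← isClassFunction_of_isIrr θ.2 ⟨c * n * c⁻¹, h.normal.conj_mem (n : G) n.2 c⟩ ⟨k, hk⟩]
      exact congrArg (θ : K → ℂ) (Subtype.ext (by push_cast; group))
    have hιinv : ∀ k ∈ K, ι k ∈ K := fun k hk => by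
      have e := K.mul_mem (hιK k) hk
      rwa [inv_mul_cancel_right] at e
    have hTK : ∀ (t : T), ∀ k ∈ K, T.subtype t k ∈ K := fun t k hk => by
      show (t : MulAut G) k ∈ K
      rcases hTmem t t.2 with e | e <;> rw [e]
      exacts [hk, hιinv k hk]
    let eK : K ≃* K := restrictOp T.subtype K hTK ⟨ι, hιT⟩
    have heq : θ = precomp eK θ := invariant_unique h lam θ (precomp eK θ) hθ (fun t x => by
        rw [precomp_apply, precomp_apply, ← hθ t (eK x)]
        exact congrArg (θ : K → ℂ) (Subtype.ext (hιcomm t x))) hlθ fun z => by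
        rw [precomp_apply, precomp_apply, map_one, ← hlθ z]
        exact congrArg (θ : K → ℂ) (Subtype.ext ((hιfix z).2 fun t => h.fixed z.2 t))
    refine invFun_of_trivial_quotient T.subtype K hTK ?_ (fun t g => ?_) θ (fun t x => ?_) hθG χ hne
    · exact (Nat.Coprime.coprime_dvd_right hTcard (h.odd.coprime_two_right))
    · show (t : MulAut G) g * g⁻¹ ∈ K
      rcases hTmem t t.2 with e | e <;> rw [e]
      · simp
      · exact hιK g
    · rcases hTmem t t.2 with e | e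
      · exact congrArg (θ : K → ℂ) (Subtype.ext (by
          show (t : MulAut G) x = x
          rw [e]; rfl))
      · rw [show t = ⟨ι, hιT⟩ from Subtype.ext e]
        exact (congrFun (congrArg Subtype.val heq) x).symm
  -- invariance under the inversion gives invariance under the operators
  have toA : ∀ χ : IrrCharacter G, InvFun T.subtype (χ : G → ℂ) → InvFun a (χ : G → ℂ) := by
    intro χ hχ t g
    obtain ⟨β, hβ, -⟩ := h1 χ hχ
    have hi : InvFun T.subtype (precomp (a t) χ : G → ℂ) := hinvT _ fun g => by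
      rw [precomp_apply, precomp_apply, ← hιcomm]
      exact hχ ⟨ι, hιT⟩ _
    have hm : mult (Fixed a) (precomp (a t) χ) β = mult (Fixed a) χ β := by
      have e := mult_precomp (Fixed a) (a t) (MulEquiv.refl (Fixed a)) (fun c => c.2 t) χ β
      rwa [show precomp (MulEquiv.refl (Fixed a)) β = β from rfl] at e
    have e := h2 _ χ hi hχ β (hm.symm ▸ hβ) hβ
    exact congrFun (congrArg Subtype.val e) g
  refine ⟨fun χ hχ hov => h1 χ (toι χ hχ hov), fun χ χ' hχ hχ' hov hov' β hβ hβ' =>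
    h2 χ χ' (toι χ hχ hov) (toι χ' hχ' hov') β hβ hβ', fun β hβ => ?_⟩
  obtain ⟨χ, hχ, hm⟩ := h3 β
  refine ⟨χ, toA χ hχ, fun z => ?_, hm⟩
  have e := central_ratio (Fixed a) χ β hm.pos.ne' ⟨z, fun t => h.fixed z.2 t⟩ (h.central z.2)
  rw [hβ z] at e
  exact mul_right_cancel₀ (IsIrr.one_ne_zero β.2) (e.trans (mul_right_comm _ _ _))

end Cfsg.Agent.Char.OddCorr
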