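import Cfsg.Agent.ProjExt.Data
import Cfsg.Agent.ProjExt.Criteria
import Cfsg.Agent.Char.ClassAlg
import Mathlib.RingTheory.RootsOfUnity.Complex

/-!
An invariant irreducible character of a normal subgroup extends to a finite central extension, to
which operators fixing the character lift.
-/

set_option autoImplicit false

namespace Cfsg.Agent.Char.OddCorr

open Subgroup Cfsg.Agent.ProjExt Module

universe u v

variable {G : Type u} [Group G] {A : Type v} [Group A]

/-- A central extension of `G` on which `θ` extends, compatible with operators. -/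
structure TripleExt (a : A →* MulAut G) (N : Subgroup G) (hN : ∀ (t : A), ∀ n ∈ N, a t n ∈ N)
    (θ : N → ℂ) where
  /-- the extension -/
  E : Type u
  [grp : Group E]
  [fin : Finite E]
  /-- the projection -/
  π : E →* G
  surj : Function.Surjective π
  /-- the copy of `N` -/
  i : N →* E
  π_i : ∀ n, π (i n) = n
  conj_i : ∀ (e : E) (n m : N), (m : G) = π e * n * (π e)⁻¹ → e * i n * e⁻¹ = i m
  /-- the extended character -/
  Φ : E → ℂ
  Φ_irr : IsIrrCharacter E Φ
  Φ_res : ∀ n, Φ (i n) = θ n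
  /-- the scalar of a kernel element -/
  sc : π.ker →* ℂˣ
  sc_inj : Function.Injective sc
  Φ_sc : ∀ (z : π.ker) (e : E), Φ ((z : E) * e) = (sc z : ℂ) * Φ e
  ker_central : π.ker ≤ center E
  /-- the lifted operators -/
  b : A →* MulAut E
  π_b : ∀ t e, π (b t e) = a t (π e)
  b_ker : ∀ t, ∀ z ∈ π.ker, b t z = z
  b_i : ∀ (t : A) (n : N), b t (i n) = i ⟨a t n, hN t n n.2⟩
  Φ_b : ∀ t e, Φ (b t e) = Φ e
  card_dvd : Nat.card E ∣ Nat.card G ^ 3

attribute [instance] TripleExt.grp TripleExt.fin

variable [Finite G]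

theorem exists_tripleExt (a : A →* MulAut G) (N : Subgroup G) [hNn : N.Normal]
    (hN : ∀ (t : A), ∀ n ∈ N, a t n ∈ N) {θ : N → ℂ} (hθ : IsIrrCharacter N θ)
    (hinv : ∀ (g : G) (n : N), θ ⟨g * n * g⁻¹, hNn.conj_mem (n : G) n.2 g⟩ = θ n)
    (hop : ∀ (t : A) (n : N), θ ⟨a t n, hN t n n.2⟩ = θ n) :
    Nonempty (TripleExt a N hN θ) := by
  classical
  obtain ⟨D⟩ := exists_data hθ hinv
  obtain ⟨d, hd, hθ1, ρ, hirr, hchar, X, f, hX, hmul, hcoc⟩ := D
  set M := Nat.card G with hM
  have hM0 : 0 < M := Nat.card_pos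
  have hconj : ∀ (g : G) (n : N), X g * X n = X ((g : G) * n * g⁻¹) * X g := by
    intro g n
    have hn' : g * n * g⁻¹ ∈ N := hNn.conj_mem _ n.2 g
    rw [hmul, hmul, hcoc.right_one _ _ n.2, hcoc.left_one _ hn', inv_mul_cancel_right]
  have hscal : ∀ u : EndU d, (∀ n : N, u * X n = X n * u) → ∃ c : ℂˣ, u = scalarU d c := fun u hu =>
    exists_scalarU ρ hirr u fun n => by
      rw [← hX, ← Units.val_mul, ← Units.val_mul, hu]
  let iX : N →* EndU d := MonoidHom.mk' (fun n => X n) fun n m => by
    show X ((n : G) * m) = X n * X m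
    rw [hmul, hcoc.left_one _ n.2, map_one, one_mul]
  have hdetN : ∀ n : N, detU d (X n) ^ M = 1 := fun n => by
    rw [← map_pow]
    show detU d (iX n ^ M) = 1
    rw [← map_pow iX, show n ^ M = 1 from Subtype.ext (by push_cast; exact pow_card_eq_one'), map_one,
      map_one]
  let E : Subgroup (G × EndU d) :=
    { carrier := {e | (∀ n m : N, (m : G) = e.1 * n * e.1⁻¹ → e.2 * X n = X m * e.2) ∧
        detU d e.2 ^ M = 1}
      one_mem' := ⟨fun n m h => by
        have : m = n := Subtype.ext (by simpa using h)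
        simp [this], by simp⟩
      mul_mem' := by
        rintro ⟨g, u⟩ ⟨g', u'⟩ ⟨h1, h2⟩ ⟨h1', h2'⟩
        refine ⟨fun n m h => ?_, by
          show detU d (u * u') ^ M = 1
          rw [map_mul, mul_pow, h2, h2', mul_one]⟩
        show u * u' * X n = X m * (u * u')
        rw [mul_assoc, h1' n ⟨g' * n * g'⁻¹, hNn.conj_mem _ n.2 g'⟩ rfl, ← mul_assoc,
          h1 ⟨g' * n * g'⁻¹, hNn.conj_mem _ n.2 g'⟩ m (by simp [h, mul_assoc]), mul_assoc]
      inv_mem' := by
        rintro ⟨g, u⟩ ⟨h1, h2⟩
        refine ⟨fun n m h => ?_, by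
          show detU d u⁻¹ ^ M = 1
          rw [map_inv, inv_pow, h2, inv_one]⟩
        show u⁻¹ * X n = X m * u⁻¹
        have := h1 m n (by
          show (n : G) = g * m * g⁻¹
          rw [h]
          show (n : G) = g * (g⁻¹ * n * g⁻¹⁻¹) * g⁻¹
          group)
        rw [inv_mul_eq_iff_eq_mul, ← mul_assoc, this, mul_inv_cancel_right] }
  let π : E →* G := (MonoidHom.fst G (EndU d)).comp E.subtype
  have hπ : ∀ e : E, π e = (e : G × EndU d).1 := fun _ => rfl
  have hsurj : Function.Surjective π := by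
    intro g
    obtain ⟨c, hc⟩ := exists_root (detU d (X g) ^ M)⁻¹ (d * M) (Nat.mul_pos hd hM0)
    refine ⟨⟨(g, scalarU d c * X g), fun n m h => ?_, ?_⟩, rfl⟩
    · show scalarU d c * X g * X n = X m * (scalarU d c * X g)
      rw [mul_assoc, hconj, ← h, ← mul_assoc, (scalarU_comm d c (X m)).eq, mul_assoc]
    · show detU d (scalarU d c * X g) ^ M = 1
      rw [map_mul, detU_scalarU, mul_pow, ← pow_mul, hc, inv_mul_cancel]
  let i : N →* E := MonoidHom.mk' (fun n => ⟨((n : G), X n), fun m k h => by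
      show X n * X m = X k * X n
      rw [hconj, h], hdetN n⟩)
    fun n m => Subtype.ext (Prod.ext rfl (iX.map_mul n m))
  have hker : ∀ z ∈ π.ker, ∃ c : ℂˣ, (z : G × EndU d).2 = scalarU d c := fun z hz =>
    hscal _ fun n => z.2.1 n n (by
      rw [show (z : G × EndU d).1 = 1 from hz]
      simp)
  choose sc0 hsc0 using hker
  let sc : π.ker →* ℂˣ := MonoidHom.mk' (fun z => sc0 z z.2) fun z w => scalarU_injective hd (by
    rw [map_mul, ← hsc0, ← hsc0, ← hsc0]
    rfl)
  have hscinj : Function.Injective sc := by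
    intro z w h
    refine Subtype.ext (Subtype.ext (Prod.ext ?_ ?_))
    · exact (show π z = 1 from z.2).trans (show π w = 1 from w.2).symm
    · rw [hsc0 _ z.2, hsc0 _ w.2]
      exact congrArg (scalarU d) h
  let σ : Representation ℂ E (Fin d → ℂ) :=
    (Units.coeHom _).comp ((MonoidHom.snd G (EndU d)).comp E.subtype)
  have hσi : ∀ n, σ (i n) = ρ n := hX
  have hσirr : σ.IsIrreducible := by
    obtain ⟨hn, hi⟩ := isIrreducible_iff.1 hirr
    exact isIrreducible_iff.2 ⟨hn, fun U hU => hi U fun n v hv => hσi n ▸ hU (i n) v hv⟩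
  -- the operators
  let hop' : ∀ t : A, ∃ P : EndU d, ∀ n m : N, (m : G) = a t n → P * X n = X m * P := by
    intro t
    let c : N →* N := MonoidHom.mk' (fun n => ⟨a t n, hN t n n.2⟩)
      fun x y => Subtype.ext (by simp)
    obtain ⟨P, hP⟩ := exists_intertwining_unit ρ (ρ.comp c) hirr (by
      funext n
      show ρ.character (c n) = ρ.character n
      rw [hchar]
      exact hop t n)
    refine ⟨P, fun n m h => Units.ext ?_⟩
    rw [Units.val_mul, Units.val_mul, hX, hX, show m = c n from Subtype.ext h]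
    exact hP n
  choose P hP using hop'
  have hmemb : ∀ (t : A) (e : E), (a t (e : G × EndU d).1, P t * (e : G × EndU d).2 * (P t)⁻¹) ∈ E := by
    rintro t ⟨⟨g, u⟩, h1, h2⟩
    refine ⟨fun n m h => ?_, ?_⟩
    · let n0 : N := ⟨a t⁻¹ n, hN t⁻¹ n n.2⟩
      have hn0 : (n : G) = a t n0 := by simp [n0]
      let m0 : N := ⟨g * n0 * g⁻¹, hNn.conj_mem _ n0.2 g⟩
      have e1 := hP t n0 n hn0
      have e2 : P t * X m0 = X m * P t := hP t m0 m (by
        show (m : G) = a t (g * n0 * g⁻¹)
        rw [h, map_mul, map_mul, map_inv, ← hn0])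
      have e3 : u * X n0 = X m0 * u := h1 n0 m0 rfl
      show P t * u * (P t)⁻¹ * X n = X m * (P t * u * (P t)⁻¹)
      rw [← eq_mul_inv_iff_mul_eq] at e1 e2
      calc P t * u * (P t)⁻¹ * X n = P t * (u * X n0) * (P t)⁻¹ := by
            have : (P t)⁻¹ * X n = X n0 * (P t)⁻¹ := by
              rw [inv_mul_eq_iff_eq_mul, ← mul_assoc, ← mul_inv_eq_iff_eq_mul, inv_inv,
                hP t n0 n hn0]
            rw [mul_assoc _ _ (X n), this]
            group
        _ = P t * X m0 * u * (P t)⁻¹ := by rw [e3]; group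
        _ = X m * P t * u * (P t)⁻¹ := by rw [hP t m0 m (by
            show (m : G) = a t (g * n0 * g⁻¹)
            rw [h, map_mul, map_mul, map_inv, ← hn0])]
        _ = _ := by group
    · show detU d (P t * u * (P t)⁻¹) ^ M = 1
      rw [map_mul, map_mul, map_inv, mul_inv_cancel_comm]
      exact h2
  let bf : A → E → E := fun t e => ⟨_, hmemb t e⟩
  have hPmul : ∀ (s t : A) (u : EndU d), P s * (P t * u * (P t)⁻¹) * (P s)⁻¹ =
      P (s * t) * u * (P (s * t))⁻¹ := by
    intro s t u
    obtain ⟨c, hc⟩ := hscal ((P (s * t))⁻¹ * (P s * P t)) fun n => by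
      let n1 : N := ⟨a t n, hN t n n.2⟩
      let n2 : N := ⟨a s n1, hN s n1 n1.2⟩
      have e1 := hP t n n1 rfl
      have e2 := hP s n1 n2 rfl
      have e3 := hP (s * t) n n2 (by simp [n1, n2])
      have e4 : P s * P t * X n = X n2 * (P s * P t) := by
        rw [mul_assoc, e1, ← mul_assoc, e2, mul_assoc]
      rw [← mul_assoc (X n), mul_assoc _ _ (X n), e4]
      have e5 : X n * (P (s * t))⁻¹ = (P (s * t))⁻¹ * X n2 := by
        rw [eq_inv_mul_iff_mul_eq, ← mul_assoc, e3, mul_inv_cancel_right]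
      rw [e5]
      group
    have e : P s * P t = P (s * t) * scalarU d c := by rw [← hc, mul_inv_cancel_left]
    calc P s * (P t * u * (P t)⁻¹) * (P s)⁻¹ = P s * P t * u * (P s * P t)⁻¹ := by group
      _ = P (s * t) * (scalarU d c * u * (scalarU d c)⁻¹) * (P (s * t))⁻¹ := by rw [e]; group
      _ = _ := by rw [(scalarU_comm d c u).eq, mul_inv_cancel_right]
  have hbf_mul : ∀ (s t : A) (e : E), bf s (bf t e) = bf (s * t) e := fun s t e =>
    Subtype.ext (Prod.ext (by simp [bf]) (hPmul s t _))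
  obtain ⟨c1, hc1⟩ := hscal (P 1) fun n => hP 1 n n (by simp)
  have hbf_one : ∀ e : E, bf 1 e = e := fun e => Subtype.ext (Prod.ext (by simp [bf]) (by
    show P 1 * (e : G × EndU d).2 * (P 1)⁻¹ = _
    rw [hc1, (scalarU_comm d c1 _).eq, mul_inv_cancel_right]))
  let b : A →* MulAut E :=
    { toFun := fun t =>
        { toFun := bf t
          invFun := bf t⁻¹
          left_inv := fun e => by rw [hbf_mul, inv_mul_cancel, hbf_one]
          right_inv := fun e => by rw [hbf_mul, mul_inv_cancel, hbf_one]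
          map_mul' := fun e e' => Subtype.ext (Prod.ext (map_mul (a t) _ _) (by
            show P t * ((e : G × EndU d).2 * (e' : G × EndU d).2) * (P t)⁻¹ =
              P t * (e : G × EndU d).2 * (P t)⁻¹ * (P t * (e' : G × EndU d).2 * (P t)⁻¹)
            group)) }
      map_one' := MulEquiv.ext hbf_one
      map_mul' := fun s t => MulEquiv.ext fun e => (hbf_mul s t e).symm }
  have hkercard : Nat.card π.ker ∣ d * M := by
    have : NeZero (d * M) := ⟨(Nat.mul_pos hd hM0).ne'⟩
    let j : π.ker →* rootsOfUnity (d * M) ℂ := sc.codRestrict _ fun z => by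
      rw [mem_rootsOfUnity, pow_mul, ← detU_scalarU d (sc z), show scalarU d (sc z) = ((z : E) : G × EndU d).2
        from (hsc0 z z.2).symm]
      exact (z : E).2.2
    have hj : Function.Injective j := fun z w h => hscinj (congrArg Subtype.val h)
    refine (Subgroup.card_dvd_of_injective j hj).trans ?_
    rw [Complex.card_rootsOfUnity]
  have hfinE : Finite E := by
    refine Nat.finite_of_card_ne_zero ?_
    rw [← Subgroup.card_mul_index π.ker, Subgroup.index_ker]
    refine mul_ne_zero (fun h => ?_) Nat.card_pos.ne'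
    rw [h, zero_dvd_iff] at hkercard
    exact (Nat.mul_pos hd hM0).ne' hkercard
  refine ⟨
    { E := E
      π := π
      surj := hsurj
      i := i
      π_i := fun n => rfl
      conj_i := fun e n m h => Subtype.ext (Prod.ext h.symm ?_)
      Φ := σ.character
      Φ_irr := ⟨d, σ, hσirr, rfl⟩
      Φ_res := fun n => ?_
      sc := sc
      sc_inj := hscinj
      Φ_sc := fun z e => ?_
      ker_central := fun z hz => mem_center_iff.mpr fun e => Subtype.ext (Prod.ext ?_ ?_)
      b := b
      π_b := fun t e => rfl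
      b_ker := fun t z hz => Subtype.ext (Prod.ext ?_ ?_)
      b_i := fun t n => Subtype.ext (Prod.ext rfl ?_)
      Φ_b := fun t e => ?_
      card_dvd := ?_ }⟩
  · show (e : G × EndU d).2 * X n * ((e : G × EndU d).2)⁻¹ = X m
    rw [mul_inv_eq_iff_eq_mul]
    exact e.2.1 n m h
  · rw [← hchar]
    exact congrArg (LinearMap.trace ℂ _) (hσi n)
  · show LinearMap.trace ℂ _ (Units.val (((z : E) : G × EndU d).2 * (e : G × EndU d).2)) =
      (sc z : ℂ) * LinearMap.trace ℂ _ (Units.val (e : G × EndU d).2)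
    rw [hsc0 z z.2, Units.val_mul, scalarU_val, Algebra.algebraMap_eq_smul_one, smul_mul_assoc,
      one_mul, map_smul, smul_eq_mul]
    rfl
  · show (e : G × EndU d).1 * (z : G × EndU d).1 = _
    rw [show (z : G × EndU d).1 = 1 from hz, mul_one]
    exact (show (z : G × EndU d).1 * (e : G × EndU d).1 = _ from by
      rw [show (z : G × EndU d).1 = 1 from hz, one_mul]).symm
  · show (e : G × EndU d).2 * (z : G × EndU d).2 = (z : G × EndU d).2 * (e : G × EndU d).2
    rw [hsc0 z hz]
    exact (scalarU_comm d _ _).eq.symm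
  · show a t (z : G × EndU d).1 = _
    rw [show (z : G × EndU d).1 = 1 from hz, map_one]
  · show P t * (z : G × EndU d).2 * (P t)⁻¹ = _
    rw [hsc0 z hz, ← (scalarU_comm d _ _).eq, mul_inv_cancel_right]
  · show P t * X n * (P t)⁻¹ = X (a t n)
    rw [mul_inv_eq_iff_eq_mul]
    exact hP t n ⟨a t n, hN t n n.2⟩ rfl
  · show LinearMap.trace ℂ _ (Units.val (P t * (e : G × EndU d).2 * (P t)⁻¹)) =
      LinearMap.trace ℂ _ (Units.val (e : G × EndU d).2)
    rw [Units.val_mul, Units.val_mul, mul_assoc, LinearMap.trace_mul_comm, mul_assoc,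
      ← Units.val_mul, inv_mul_cancel, Units.val_one, mul_one]
  · rw [← Subgroup.card_mul_index π.ker, Subgroup.index_ker, MonoidHom.range_eq_top.2 hsurj,
      Subgroup.card_top, pow_three]
    have hdM : d ∣ M := (IsIrr.degree_dvd_card hθ hθ1).trans (Subgroup.card_subgroup_dvd_card N)
    rw [← mul_assoc]
    exact mul_dvd_mul_right (hkercard.trans (mul_dvd_mul_right hdM M)) _

end Cfsg.Agent.Char.OddCorr
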