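import Cfsg.Agent.Char.OddCorr.Pull

/-!
Characters of `G` over a character extending to a cover `E` correspond to characters of a quotient
`Q` of `E`.
-/

set_option autoImplicit false

namespace Cfsg.Agent.Char.OddCorr

open Cfsg.Agent.Char.Glauberman
open scoped ComplexConjugate

universe u

variable {E G Q : Type u} [Group E] [Group G] [Group Q] (π : E →* G) (q : E →* Q) (Φ : E → ℂ)

/-- `χ` and `β` correspond. -/
def Rel (χ : G → ℂ) (β : Q → ℂ) : Prop := ∀ e, χ (π e) = β (q e) * Φ e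

variable {π q Φ}

theorem Rel.eq_left (hπ : Function.Surjective π) {χ χ' : G → ℂ} {β : Q → ℂ} (h : Rel π q Φ χ β)
    (h' : Rel π q Φ χ' β) : χ = χ' := funext fun g => by
  obtain ⟨e, rfl⟩ := hπ g
  rw [h e, h' e]

variable [Fintype E] [Fintype q.ker]

theorem Rel.eq_right (hq : Function.Surjective q) (hΦ : IsIrrCharacter E Φ)
    (hM : IsIrrCharacter q.ker (fun n : q.ker => Φ n)) {χ : G → ℂ} {β β' : Q → ℂ}
    (hβ : IsCharacter Q β) (hβ' : IsCharacter Q β') (h : Rel π q Φ χ β)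
    (h' : Rel π q Φ χ β') : β = β' := by
  have key : (fun e => β (q e)) = fun e => β' (q e) :=
    gal_eq q.ker hΦ hM (isCharacter_comp q hβ) (isCharacter_comp q hβ')
      (fun n hn => by show β (q n) = β (q 1); rw [show q n = 1 from hn, map_one])
      (fun n hn => by show β' (q n) = β' (q 1); rw [show q n = 1 from hn, map_one])
      (funext fun e => (h e).symm.trans (h' e))
  funext x
  obtain ⟨e, rfl⟩ := hq x
  exact congrFun key e

theorem Rel.inv_iff (hπ : Function.Surjective π) (hq : Function.Surjective q)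
    (hΦ : IsIrrCharacter E Φ) (hM : IsIrrCharacter q.ker (fun n : q.ker => Φ n)) {χ : G → ℂ}
    {β : Q → ℂ} (hβ : IsCharacter Q β) (h : Rel π q Φ χ β) (σE : E ≃* E) (σG : G ≃* G)
    (σQ : Q ≃* Q) (e1 : ∀ e, π (σE e) = σG (π e)) (e2 : ∀ e, q (σE e) = σQ (q e))
    (e3 : ∀ e, Φ (σE e) = Φ e) : (∀ g, χ (σG g) = χ g) ↔ ∀ x, β (σQ x) = β x := by
  constructor
  · intro hχ x
    have h' : Rel π q Φ χ (fun y => β (σQ y)) := fun e => by
      show _ = β (σQ (q e)) * Φ e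
      rw [← hχ, ← e1, h, e2, e3]
    exact (congrFun (h.eq_right hq hΦ hM hβ (isCharacter_comp σQ.toMonoidHom hβ) h') x).symm
  · intro hβi g
    obtain ⟨e, rfl⟩ := hπ g
    rw [← e1, h, h e, e2, e3, hβi]

theorem exists_right (hπ : Function.Surjective π) (hq : Function.Surjective q) [Fintype G]
    [Fintype Q] (hΦ : IsIrrCharacter E Φ) (hM : IsIrrCharacter q.ker (fun n : q.ker => Φ n))
    {c : π.ker → ℂ} (hc : ∀ z : π.ker, Φ z = c z * Φ 1) (χ : IrrCharacter G)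
    (hover : classInner (fun n : q.ker => (χ : G → ℂ) (π n)) (fun n : q.ker => Φ n) ≠ 0) :
    ∃ β : IrrCharacter Q, Rel π q Φ (χ : G → ℂ) (β : Q → ℂ) ∧
      ∀ z : π.ker, (β : Q → ℂ) (q z) * c z = (β : Q → ℂ) 1 := by
  obtain ⟨hη, hηM, hfac⟩ := (gallagher q.ker hΦ hM
    (show IsIrrCharacter E (fun e => (χ : G → ℂ) (π e)) from isIrrCharacter_comp π hπ χ.2)).1 hover
  obtain ⟨β, hβ⟩ := exists_desc q hq ⟨_, hη⟩ hηM
  have hrel : Rel π q Φ (χ : G → ℂ) (β : Q → ℂ) := fun e => by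
    rw [← hβ]
    exact congrFun hfac e
  refine ⟨β, hrel, fun z => mul_right_cancel₀ (IsIrr.one_ne_zero hΦ) ?_⟩
  rw [mul_assoc, ← hc, ← hrel z, show π z = 1 from z.2]
  have := hrel 1
  rw [map_one, map_one] at this
  exact this

theorem exists_left (hπ : Function.Surjective π) (hq : Function.Surjective q) [Fintype G]
    (hΦ : IsIrrCharacter E Φ) (hM : IsIrrCharacter q.ker (fun n : q.ker => Φ n))
    {c : π.ker → ℂ} (hc : ∀ z : π.ker, Φ z = c z * Φ 1) (β : IrrCharacter Q)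
    (hβc : ∀ z : π.ker, (β : Q → ℂ) (q z) * c z = (β : Q → ℂ) 1) :
    ∃ χ : IrrCharacter G, Rel π q Φ (χ : G → ℂ) (β : Q → ℂ) ∧
      classInner (fun n : q.ker => (χ : G → ℂ) (π n)) (fun n : q.ker => Φ n) ≠ 0 := by
  have hω : IsIrrCharacter E ((fun e => (β : Q → ℂ) (q e)) * Φ) :=
    isIrr_mul_of_res_irr q.ker hΦ hM (isIrrCharacter_comp q hq β.2) fun n hn => by
      show (β : Q → ℂ) (q n) = (β : Q → ℂ) (q 1)
      rw [show q n = 1 from hn, map_one]
  obtain ⟨χ, hχ⟩ := exists_desc π hπ ⟨_, hω⟩ fun z hz => by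
    show (β : Q → ℂ) (q z) * Φ z = (β : Q → ℂ) (q 1) * Φ 1
    rw [hc ⟨z, hz⟩, map_one, ← mul_assoc, hβc ⟨z, hz⟩]
  have hrel : Rel π q Φ (χ : G → ℂ) (β : Q → ℂ) := fun e => (hχ e).symm
  refine ⟨χ, hrel, ?_⟩
  have e : (fun n : q.ker => (χ : G → ℂ) (π n)) = (β : Q → ℂ) 1 • fun n : q.ker => Φ n := by
    funext n
    rw [hrel, show q n = 1 from n.2]
    rfl
  rw [e, classInner_smul_left, classInner_irr_self hM, mul_one]
  exact IsIrr.one_ne_zero β.2

/-- Multiplicities correspond. -/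
theorem mult_rel (hπ : Function.Surjective π) (hq : Function.Surjective q) [Fintype G] [Fintype Q]
    (hΦ : IsIrrCharacter E Φ) (hM : IsIrrCharacter q.ker (fun n : q.ker => Φ n))
    (H : Subgroup G) [Fintype H] (HQ : Subgroup Q) [Fintype HQ]
    (hH : ∀ e, π e ∈ H ↔ q e ∈ HQ) (χ : IrrCharacter G) (β : IrrCharacter Q)
    (hrel : Rel π q Φ (χ : G → ℂ) (β : Q → ℂ)) (ψ : IrrCharacter H) (γ : IrrCharacter HQ)
    (hrel' : ∀ (e : E) (he : π e ∈ H), (ψ : H → ℂ) ⟨π e, he⟩ =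
      (γ : HQ → ℂ) ⟨q e, (hH e).1 he⟩ * Φ e) :
    mult H χ ψ = mult HQ β γ := by
  classical
  let Hh : Subgroup E := H.comap π
  letI := Fintype.ofFinite Hh
  let gπ : Hh →* H := MonoidHom.mk' (fun e => ⟨π e, e.2⟩) fun x y => Subtype.ext (map_mul π _ _)
  let gq : Hh →* HQ := MonoidHom.mk' (fun e => ⟨q e, (hH e).1 e.2⟩)
    fun x y => Subtype.ext (map_mul q _ _)
  have hgπ : Function.Surjective gπ := fun y => by
    obtain ⟨e, he⟩ := hπ y
    exact ⟨⟨e, show π e ∈ H from he ▸ y.2⟩, Subtype.ext he⟩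
  have hgq : Function.Surjective gq := fun y => by
    obtain ⟨e, he⟩ := hq y
    exact ⟨⟨e, (hH e).2 (he ▸ y.2)⟩, Subtype.ext he⟩
  let χh : IrrCharacter E := ⟨_, isIrrCharacter_comp π hπ χ.2⟩
  let ψh : IrrCharacter Hh := ⟨_, isIrrCharacter_comp gπ hgπ ψ.2⟩
  let βh : IrrCharacter E := ⟨_, isIrrCharacter_comp q hq β.2⟩
  let γh : IrrCharacter Hh := ⟨_, isIrrCharacter_comp gq hgq γ.2⟩
  rw [← mult_map π hπ H Hh (fun _ => Iff.rfl) χ ψ χh ψh (fun _ => rfl) (fun _ => rfl),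
    ← mult_map q hq HQ Hh (fun e => hH e) β γ βh γh (fun _ => rfl) (fun _ => rfl)]
  refine gal_mult q.ker hΦ hM Hh (fun e he => (hH e).2 ?_) χh βh ψh γh (fun n hn => ?_)
    (fun n hn => ?_) hrel fun e => hrel' e e.2
  · rw [show q e = 1 from he]
    exact one_mem _
  · show (β : Q → ℂ) (q n) = (β : Q → ℂ) (q 1)
    rw [show q n = 1 from hn, map_one]
  · show (γ : HQ → ℂ) (gq n) = (γ : HQ → ℂ) (gq 1)
    rw [map_one, show gq n = 1 from Subtype.ext hn]

end Cfsg.Agent.Char.OddCorr
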