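import Cfsg.Agent.Char.OddCorr.Core
import Cfsg.Agent.Char.OddCorr.Triple
import Cfsg.Agent.Char.Glauberman.AboveSolvable

/-!
The correspondence over an invariant character of the bottom group.
-/

set_option autoImplicit false

namespace Cfsg.Agent.Char.OddCorr

open Subgroup Cfsg.Agent.Char.Glauberman
open scoped commutatorElement

universe u v

variable {G : Type u} [Group G] {A : Type v} [Group A] [Finite A]

/-- An invariant coset of an invariant solvable subgroup of coprime order contains a fixed point. -/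
theorem exists_fixed_coset [Finite G] (a : A →* MulAut G) (N : Subgroup G)
    (hN : ∀ (t : A), ∀ n ∈ N, a t n ∈ N) (hcop : (Nat.card G).Coprime (Nat.card A))
    (hsol : Group.IsSolvable N) (g : G) (hg : ∀ t, g⁻¹ * a t g ∈ N) :
    ∃ c ∈ Fixed a, g⁻¹ * c ∈ N := by
  classical
  let X := {x : G // g⁻¹ * x ∈ N}
  have hinv : ∀ (t : A) (x : G), g⁻¹ * x ∈ N → g⁻¹ * a t x ∈ N := by
    intro t x hx
    have e : g⁻¹ * a t x = g⁻¹ * a t g * a t (g⁻¹ * x) := by
      rw [map_mul, map_inv]; group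
    rw [e]
    exact N.mul_mem (hg t) (hN t _ hx)
  let act : N →* Equiv.Perm X :=
    { toFun := fun l => (Equiv.mulRight ((l : G)⁻¹)).subtypeEquiv fun x => by
        show g⁻¹ * x ∈ N ↔ g⁻¹ * (x * (l : G)⁻¹) ∈ N
        rw [← mul_assoc, N.mul_mem_cancel_right (N.inv_mem l.2)]
      map_one' := Equiv.ext fun x => Subtype.ext (by simp)
      map_mul' := fun l m => Equiv.ext fun x => Subtype.ext (by simp [mul_assoc]) }
  let op : A →* Equiv.Perm X :=
    { toFun := fun t => (a t).toEquiv.subtypeEquiv fun x => ⟨hinv t x, fun h => by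
        simpa using hinv t⁻¹ (a t x) h⟩
      map_one' := Equiv.ext fun x => Subtype.ext (by simp)
      map_mul' := fun s t => Equiv.ext fun x => Subtype.ext (by simp) }
  have hc : Compat (restrictOp a N hN) act op := by
    refine ⟨fun t l x => Subtype.ext ?_, fun x y => ?_⟩
    · show a t ((x : G) * (l : G)⁻¹) = a t (x : G) * (a t (l : G))⁻¹
      rw [map_mul, map_inv]
    · refine ⟨⟨(g⁻¹ * (y : G))⁻¹ * (g⁻¹ * x), N.mul_mem (N.inv_mem y.2) x.2⟩, Subtype.ext ?_⟩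
      show (x : G) * ((g⁻¹ * (y : G))⁻¹ * (g⁻¹ * x))⁻¹ = y
      group
  obtain ⟨x, hx⟩ := glauberman_solvable_group _ (restrictOp a N hN) act op hc rfl hsol
    (hcop.coprime_dvd_left (Subgroup.card_subgroup_dvd_card N)) ⟨⟨g, by simp⟩⟩
  exact ⟨x, fun t => congrArg Subtype.val (hx t), x.2⟩

variable [Fintype G]

/-- Data of the inertial situation. -/
structure Inertial (a : A →* MulAut G) (K L J : Subgroup G) : Prop where
  odd : Odd (Nat.card G)
  cop : (Nat.card G).Coprime (Nat.card A)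
  solv : Group.IsSolvable G
  Lnormal : L.Normal
  Knormal : K.Normal
  Linv : ∀ (t : A), ∀ l ∈ L, a t l ∈ L
  Kinv : ∀ (t : A), ∀ k ∈ K, a t k ∈ K
  LK : L ≤ K
  comm : ∀ x ∈ K, ∀ y ∈ K, ⁅x, y⁆ ∈ L
  sup : K ⊔ Fixed a = ⊤
  inter : K ⊓ Fixed a ≤ L
  J_eq : J = L ⊔ Fixed a

/-- The correspondence over an invariant character of `L`. -/
theorem inertial_corr {a : A →* MulAut G} {K L J : Subgroup G} (h : Inertial a K L J) [Fintype L]
    [Fintype J] (hLJ : L ≤ J) (hJ : ∀ (t : A), ∀ x ∈ J, a t x ∈ J) (φ : IrrCharacter L)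
    (hφG : ∀ (g : G) (n : L), (φ : L → ℂ) ⟨g * n * g⁻¹, h.Lnormal.conj_mem (n : G) n.2 g⟩ =
      (φ : L → ℂ) n)
    (hφA : InvFun (restrictOp a L h.Linv) (φ : L → ℂ)) :
    (∀ χ : IrrCharacter G, InvFun a (χ : G → ℂ) → mult L χ φ ≠ 0 →
      ∃! ψ : IrrCharacter J, classInner (fun n : L => (ψ : J → ℂ) ⟨n, hLJ n.2⟩) (φ : L → ℂ) ≠ 0 ∧
        Odd (mult J χ ψ)) ∧
    (∀ χ χ' : IrrCharacter G, InvFun a (χ : G → ℂ) → InvFun a (χ' : G → ℂ) →
      mult L χ φ ≠ 0 → mult L χ' φ ≠ 0 → ∀ ψ : IrrCharacter J,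
      classInner (fun n : L => (ψ : J → ℂ) ⟨n, hLJ n.2⟩) (φ : L → ℂ) ≠ 0 →
      Odd (mult J χ ψ) → Odd (mult J χ' ψ) → χ = χ') ∧
    (∀ ψ : IrrCharacter J, classInner (fun n : L => (ψ : J → ℂ) ⟨n, hLJ n.2⟩) (φ : L → ℂ) ≠ 0 →
      InvFun (restrictOp a J hJ) (ψ : J → ℂ) ∧
      ∃ χ : IrrCharacter G, InvFun a (χ : G → ℂ) ∧ mult L χ φ ≠ 0 ∧ Odd (mult J χ ψ)) := by
  classical
  haveI := h.Lnormal
  haveI := h.Knormal
  obtain ⟨T⟩ := exists_tripleExt a L h.Linv φ.2 hφG hφA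
  letI := Fintype.ofFinite T.E
  have hcopE : (Nat.card T.E).Coprime (Nat.card A) :=
    (h.cop.pow_left 3).coprime_dvd_left T.card_dvd
  have hinj : Function.Injective T.i := fun x y e => Subtype.ext (by rw [← T.π_i x, e, T.π_i])
  let M : Subgroup T.E := T.i.range
  haveI hMn : M.Normal := ⟨by
    rintro _ ⟨n, rfl⟩ e
    exact ⟨⟨T.π e * n * (T.π e)⁻¹, h.Lnormal.conj_mem (n : G) n.2 _⟩, (T.conj_i e n _ rfl).symm⟩⟩
  have hMinv : ∀ (t : A), ∀ x ∈ M, T.b t x ∈ M := by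
    rintro t _ ⟨n, rfl⟩
    exact ⟨_, (T.b_i t n).symm⟩
  let Qc := T.E ⧸ M
  letI : Fintype Qc := Fintype.ofFinite _
  let q : T.E →* Qc := QuotientGroup.mk' M
  have hq : Function.Surjective q := QuotientGroup.mk'_surjective M
  have hqker : q.ker = M := QuotientGroup.ker_mk' M
  letI : Fintype q.ker := Fintype.ofFinite _
  let bc : A →* MulAut Qc := quotOp T.b M hMinv
  have hbc : ∀ t e, bc t (q e) = q (T.b t e) := fun t e => rfl
  let eM : L ≃* q.ker := (MonoidHom.ofInjective hinj).trans (MulEquiv.subgroupCongr hqker.symm)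
  have heM : ∀ l : L, ((eM l : q.ker) : T.E) = T.i l := fun l => rfl
  have hM : IsIrrCharacter q.ker (fun n : q.ker => T.Φ n) := by
    refine (isIrrCharacter_comp_equiv eM).1 ?_
    rw [show (fun n : L => T.Φ (eM n : q.ker)) = (φ : L → ℂ) from funext T.Φ_res]
    exact φ.2
  have hinner : ∀ f : G → ℂ,
      classInner (fun n : q.ker => f (T.π n)) (fun n : q.ker => T.Φ n) =
        classInner (fun n : L => f n) (φ : L → ℂ) := by
    intro f
    rw [classInner, classInner, ← Nat.card_congr eM.toEquiv]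
    refine congrArg _ (Fintype.sum_equiv eM.toEquiv _ _ fun k => ?_).symm
    show f k * _ = f (T.π (T.i k)) * (starRingEnd ℂ) (T.Φ (T.i k))
    rw [T.π_i, T.Φ_res]
  have hover : ∀ χ : IrrCharacter G, mult L χ φ ≠ 0 ↔
      classInner (fun n : q.ker => (χ : G → ℂ) (T.π n)) (fun n : q.ker => T.Φ n) ≠ 0 := fun χ => by
    rw [hinner (χ : G → ℂ), mult_spec, Nat.cast_ne_zero]
  -- lifts of fixed elements are fixed
  have hlift : ∀ e, T.π e ∈ Fixed a → ∀ t, T.b t e = e := fun e he t =>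
    apply_eq_of_fixed_shift T.b hcopE t (z := T.b t e * e⁻¹)
      (T.b_ker t _ (by rw [MonoidHom.mem_ker, map_mul, map_inv, T.π_b, he t, mul_inv_cancel]))
      (inv_mul_cancel_right _ _).symm
  have hkerM : ∀ e : T.E, T.π e ∈ L → ∃ l : L, ∃ z ∈ T.π.ker, e = T.i l * z := fun e he =>
    ⟨⟨T.π e, he⟩, (T.i ⟨T.π e, he⟩)⁻¹ * e, by simp [MonoidHom.mem_ker, T.π_i],
      (mul_inv_cancel_left _ _).symm⟩
  have hqi : ∀ l : L, q (T.i l) = 1 := fun l => (QuotientGroup.eq_one_iff _).2 ⟨l, rfl⟩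
  have hmemJ : ∀ x, x ∈ J ↔ x ∈ L ⊔ Fixed a := SetLike.ext_iff.1 h.J_eq
  have hJfix : ∀ e, T.π e ∈ J ↔ q e ∈ Fixed bc := by
    intro e
    rw [hmemJ]
    refine ⟨fun he t => ?_, fun he => ?_⟩
    · obtain ⟨l, hl, c, hc, hlc⟩ := mem_sup_of_normal_left.1 he
      obtain ⟨ch, hch⟩ := T.surj c
      obtain ⟨l', z, hz, hez⟩ := hkerM (e * ch⁻¹) (by
        rw [map_mul, map_inv, hch, ← hlc, mul_inv_cancel_right]; exact hl)
      have hee : e = T.i l' * z * ch := by rw [← hez, inv_mul_cancel_right]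
      rw [hbc, hee, map_mul (T.b t), map_mul (T.b t), T.b_ker t z hz, T.b_i, hlift ch (by rw [hch]; exact hc) t]
      simp only [map_mul, hqi]
    · have hd : ∀ t, (T.π e)⁻¹ * a t (T.π e) ∈ L := fun t => by
        have e1 := he t
        rw [hbc] at e1
        have e2 : (T.b t e)⁻¹ * e ∈ M := QuotientGroup.eq.1 e1
        obtain ⟨l, hl⟩ := M.inv_mem e2
        have e3 := congrArg T.π hl
        rw [T.π_i, mul_inv_rev, inv_inv, map_mul, map_inv, T.π_b] at e3
        rw [← e3]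
        exact l.2
      haveI := h.solv
      obtain ⟨c, hc, hcL⟩ := exists_fixed_coset a L h.Linv h.cop inferInstance (T.π e) hd
      have e4 : T.π e = (c * ((T.π e)⁻¹ * c)⁻¹ * c⁻¹) * c := by group
      rw [e4]
      exact Subgroup.mul_mem_sup (h.Lnormal.conj_mem _ (L.inv_mem hcL) c) hc
  let Kh : Subgroup T.E := K.comap T.π
  let Kc : Subgroup Qc := Kh.map q
  let Zc : Subgroup Qc := (q.comp T.π.ker.subtype).range
  have hzq : Function.Injective (q.comp T.π.ker.subtype) := by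
    rw [injective_iff_map_eq_one]
    intro z hz
    obtain ⟨l, hl⟩ := (QuotientGroup.eq_one_iff (z : T.E)).1 hz
    have e := congrArg T.π hl
    rw [T.π_i, show T.π (z : T.E) = 1 from z.2] at e
    refine Subtype.ext ?_
    rw [← hl, show l = 1 from Subtype.ext e, map_one, OneMemClass.coe_one]
  let eZ : T.π.ker ≃* Zc := MonoidHom.ofInjective hzq
  let lam : Zc →* ℂˣ := (T.sc.comp eZ.symm.toMonoidHom)⁻¹
  have hlam : ∀ z : T.π.ker, lam (eZ z) = (T.sc z)⁻¹ := fun z => by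
    show (T.sc (eZ.symm (eZ z)))⁻¹ = _
    rw [eZ.symm_apply_apply]
  have hcardQ : Nat.card Qc ∣ Nat.card G ^ 3 :=
    (Subgroup.card_quotient_dvd_card M).trans T.card_dvd
  have hS : Setting bc Kc Zc :=
    { odd := h.odd.pow.of_dvd_nat hcardQ
      cop := hcopE.coprime_dvd_left (Subgroup.card_quotient_dvd_card M)
      normal := (h.Knormal.comap T.π).map q hq
      inv := by
        rintro t _ ⟨e, he, rfl⟩
        refine ⟨T.b t e, ?_, rfl⟩
        show T.π (T.b t e) ∈ K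
        rw [T.π_b]
        exact h.Kinv t _ he
      central := by
        rintro _ ⟨z, rfl⟩
        refine mem_center_iff.mpr fun x => ?_
        obtain ⟨e, rfl⟩ := hq x
        show q e * q (z : T.E) = q (z : T.E) * q e
        rw [← map_mul, ← map_mul, mem_center_iff.mp (T.ker_central z.2) e]
      comm := by
        rintro _ ⟨x, hx, rfl⟩ _ ⟨y, hy, rfl⟩
        obtain ⟨l, z, hz, hlz⟩ := hkerM ⁅x, y⁆ (by
          rw [map_commutatorElement]; exact h.comm _ hx _ hy)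
        refine ⟨⟨z, hz⟩, ?_⟩
        show q z = _
        rw [← map_commutatorElement, hlz, map_mul, hqi, one_mul]
      fixed_inter := by
        refine le_antisymm ?_ ?_
        · rintro _ ⟨⟨e, he, rfl⟩, hf⟩
          have hJe := (hmemJ _).1 ((hJfix e).2 hf)
          obtain ⟨l, hl, c, hc, hlc⟩ := mem_sup_of_normal_left.1 hJe
          have hcK : c ∈ K := by
            have e5 : c = l⁻¹ * T.π e := by rw [← hlc, inv_mul_cancel_left]
            rw [e5]
            exact K.mul_mem (K.inv_mem (h.LK hl)) he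
          obtain ⟨l', z, hz, hlz⟩ := hkerM e (hlc ▸ L.mul_mem hl (h.inter ⟨hcK, hc⟩))
          refine ⟨⟨z, hz⟩, ?_⟩
          show q z = _
          rw [hlz, map_mul, hqi, one_mul]
        · rintro _ ⟨z, rfl⟩
          refine ⟨⟨z, ?_, rfl⟩, fun t => ?_⟩
          · show T.π (z : T.E) ∈ K
            rw [show T.π (z : T.E) = 1 from z.2]
            exact K.one_mem
          · show bc t (q z) = q z
            rw [hbc, T.b_ker t z z.2]
      sup := by
        refine eq_top_iff.2 fun x _ => ?_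
        obtain ⟨e, rfl⟩ := hq x
        obtain ⟨k, hk, c, hc, hkc⟩ := mem_sup_of_normal_left.1
          (h.sup ▸ mem_top (T.π e) : T.π e ∈ K ⊔ Fixed a)
        obtain ⟨ch, hch⟩ := T.surj c
        rw [show q e = q (e * ch⁻¹) * q ch by rw [← map_mul, inv_mul_cancel_right]]
        refine Subgroup.mul_mem_sup ⟨e * ch⁻¹, ?_, rfl⟩ fun t => ?_
        · show T.π (e * ch⁻¹) ∈ K
          rw [map_mul, map_inv, hch, ← hkc, mul_inv_cancel_right]
          exact hk
        · rw [hbc, hlift ch (by rw [hch]; exact hc) t] }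
  have hsolE : Group.IsSolvable T.E := by
    haveI := h.solv
    haveI : Group.IsSolvable T.π.ker := Group.isSolvable_of_comm fun x y =>
      Subtype.ext (mem_center_iff.mp (T.ker_central y.2) x)
    exact Group.isSolvable_of_ker_le_range T.π.ker.subtype T.π (by rw [Subgroup.range_subtype])
  have hsolQ : Group.IsSolvable Qc := by
    haveI := hsolE
    exact Group.isSolvable_of_surjective hq
  letI : Fintype (Fixed bc) := Fintype.ofFinite _
  obtain ⟨c1, c2, c3⟩ := core hS lam hsolQ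
  -- the level of `J`
  let Jh : Subgroup T.E := J.comap T.π
  letI : Fintype Jh := Fintype.ofFinite _
  let πJ : Jh →* J := MonoidHom.mk' (fun e => ⟨T.π e, e.2⟩) fun x y => Subtype.ext (map_mul T.π _ _)
  let qJ : Jh →* Fixed bc := MonoidHom.mk' (fun e => ⟨q e, (hJfix e).1 e.2⟩)
    fun x y => Subtype.ext (map_mul q _ _)
  have hπJ : Function.Surjective πJ := fun y => by
    obtain ⟨e, he⟩ := T.surj y
    exact ⟨⟨e, show T.π e ∈ J from he ▸ y.2⟩, Subtype.ext he⟩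
  have hqJ : Function.Surjective qJ := fun y => by
    obtain ⟨e, he⟩ := hq y
    exact ⟨⟨e, (hJfix e).2 (he ▸ y.2)⟩, Subtype.ext he⟩
  letI : Fintype qJ.ker := Fintype.ofFinite _
  let eJ : qJ.ker ≃* q.ker :=
    { toFun := fun n => ⟨((n : Jh) : T.E), congrArg Subtype.val (show qJ n = 1 from n.2)⟩
      invFun := fun n => ⟨⟨n, (hJfix n).2 (by rw [show q n = 1 from n.2]; exact one_mem _)⟩,
        Subtype.ext (show q n = 1 from n.2)⟩
      left_inv := fun n => rfl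
      right_inv := fun n => rfl
      map_mul' := fun x y => rfl }
  have hMJ : IsIrrCharacter qJ.ker (fun n : qJ.ker => T.Φ ((n : Jh) : T.E)) :=
    (isIrrCharacter_comp_equiv eJ).2 hM
  have hΦJ : IsIrrCharacter Jh (fun e : Jh => T.Φ e) :=
    ProjExt.isIrr_of_res (N := qJ.ker) (isCharacter_res Jh (IsIrr.isCharacter T.Φ_irr)) hMJ
      fun _ => rfl
  have hoverJ : ∀ ψ : IrrCharacter J,
      classInner (fun n : qJ.ker => (ψ : J → ℂ) (πJ n)) (fun n : qJ.ker => T.Φ ((n : Jh) : T.E)) =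
        classInner (fun n : L => (ψ : J → ℂ) ⟨n, hLJ n.2⟩) (φ : L → ℂ) := by
    intro ψ
    rw [classInner, classInner, ← Nat.card_congr (eM.trans eJ.symm).toEquiv]
    refine congrArg _ (Fintype.sum_equiv (eM.trans eJ.symm).toEquiv _ _ fun k => ?_).symm
    have hk : T.π (T.i k) ∈ J := by rw [T.π_i]; exact hLJ k.2
    show _ = (ψ : J → ℂ) ⟨T.π (T.i k), hk⟩ * (starRingEnd ℂ) (T.Φ (T.i k))
    rw [T.Φ_res, show (⟨T.π (T.i k), hk⟩ : J) = ⟨(k : G), hLJ k.2⟩ from Subtype.ext (T.π_i k)]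
  have hcG : ∀ z : T.π.ker, T.Φ z = (T.sc z : ℂ) * T.Φ 1 := fun z => by
    simpa using T.Φ_sc z 1
  let cJ : πJ.ker → ℂ := fun z =>
    (T.sc ⟨((z : Jh) : T.E), congrArg Subtype.val (show πJ z = 1 from z.2)⟩ : ℂ)
  have hcJ : ∀ z : πJ.ker, T.Φ ((z : Jh) : T.E) = cJ z * T.Φ ((1 : Jh) : T.E) := fun z => by
    rw [OneMemClass.coe_one]
    exact hcG ⟨((z : Jh) : T.E), congrArg Subtype.val (show πJ z = 1 from z.2)⟩
  -- invariance
  have hinvG : ∀ (χ : IrrCharacter G) (β : IrrCharacter Qc),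
      Rel T.π q T.Φ (χ : G → ℂ) (β : Qc → ℂ) → (InvFun a (χ : G → ℂ) ↔ InvFun bc (β : Qc → ℂ)) := by
    intro χ β hrel
    refine forall_congr' fun t => ?_
    exact hrel.inv_iff T.surj hq T.Φ_irr hM (IsIrr.isCharacter β.2) (T.b t) (a t) (bc t)
      (T.π_b t) (fun e => rfl) (T.Φ_b t)
  -- matching the scalars
  have hovQ : ∀ β : IrrCharacter Qc,
      (∀ z : Zc, (β : Qc → ℂ) z = (lam z : ℂ) * (β : Qc → ℂ) 1) ↔
      ∀ z : T.π.ker, (β : Qc → ℂ) (q z) * (T.sc z : ℂ) = (β : Qc → ℂ) 1 := by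
    intro β
    constructor
    · intro hb z
      rw [show q z = ((eZ z : Zc) : Qc) from rfl, hb (eZ z), hlam, Units.val_inv_eq_inv_val,
        mul_comm, ← mul_assoc, mul_inv_cancel₀ (Units.ne_zero _), one_mul]
    · intro hb z
      obtain ⟨z, rfl⟩ := eZ.surjective z
      rw [hlam, Units.val_inv_eq_inv_val, ← hb z, mul_comm _ (T.sc z : ℂ), ← mul_assoc,
        inv_mul_cancel₀ (Units.ne_zero _), one_mul]
      rfl
  have hovF : ∀ γ : IrrCharacter (Fixed bc),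
      (∀ z : Zc, (γ : Fixed bc → ℂ) ⟨z, fun t => hS.fixed z.2 t⟩ =
        (lam z : ℂ) * (γ : Fixed bc → ℂ) 1) ↔
      ∀ z : πJ.ker, (γ : Fixed bc → ℂ) (qJ z) * cJ z = (γ : Fixed bc → ℂ) 1 := by
    intro γ
    constructor
    · intro hb z
      set z' : T.π.ker := ⟨((z : Jh) : T.E), congrArg Subtype.val (show πJ z = 1 from z.2)⟩
      have e := hb (eZ z')
      rw [hlam] at e
      show (γ : Fixed bc → ℂ) (qJ z) * (T.sc z' : ℂ) = _
      rw [show qJ z = ⟨((eZ z' : Zc) : Qc), fun t => hS.fixed (eZ z').2 t⟩ from rfl, e,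
        Units.val_inv_eq_inv_val, mul_comm, ← mul_assoc, mul_inv_cancel₀ (Units.ne_zero _), one_mul]
    · intro hb z
      obtain ⟨z, rfl⟩ := eZ.surjective z
      have hzJ : (z : T.E) ∈ Jh := by
        show T.π (z : T.E) ∈ J
        rw [show T.π (z : T.E) = 1 from z.2]
        exact J.one_mem
      have e := hb ⟨⟨z, hzJ⟩, Subtype.ext z.2⟩
      rw [hlam, Units.val_inv_eq_inv_val, ← e, mul_comm _ (cJ _), ← mul_assoc,
        show cJ ⟨⟨z, hzJ⟩, Subtype.ext z.2⟩ = (T.sc z : ℂ) from rfl,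
        inv_mul_cancel₀ (Units.ne_zero _), one_mul]
      rfl
  have hmult : ∀ (χ : IrrCharacter G) (β : IrrCharacter Qc),
      Rel T.π q T.Φ (χ : G → ℂ) (β : Qc → ℂ) → ∀ (ψ : IrrCharacter J)
      (γ : IrrCharacter (Fixed bc)),
      Rel πJ qJ (fun e : Jh => T.Φ e) (ψ : J → ℂ) (γ : Fixed bc → ℂ) →
      mult J χ ψ = mult (Fixed bc) β γ := fun χ β hrel ψ γ hrel' =>
    mult_rel T.surj hq T.Φ_irr hM J (Fixed bc) hJfix χ β hrel ψ γ fun e he => hrel' ⟨e, he⟩
  refine ⟨fun χ hχ hov => ?_, fun χ χ' hχ hχ' hov hov' ψ hψ hm hm' => ?_, fun ψ hψ => ?_⟩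
  · obtain ⟨β, hrel, hβ⟩ := exists_right T.surj hq T.Φ_irr hM hcG χ ((hover χ).1 hov)
    have hbi := (hinvG χ β hrel).1 hχ
    obtain ⟨γ, hγ, hu⟩ := c1 β hbi ((hovQ β).2 hβ)
    have hγl := fun z : Zc => (show (γ : Fixed bc → ℂ) ⟨z, fun t => hS.fixed z.2 t⟩ =
        (lam z : ℂ) * (γ : Fixed bc → ℂ) 1 from by
      have e := central_ratio (Fixed bc) β γ hγ.pos.ne' ⟨z, fun t => hS.fixed z.2 t⟩ (hS.central z.2)
      rw [(hovQ β).2 hβ z] at e
      refine mul_right_cancel₀ (IsIrr.one_ne_zero β.2) (e.symm.trans ?_)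
      ring)
    obtain ⟨ψ, hrel', hψ⟩ := exists_left hπJ hqJ hΦJ hMJ hcJ γ ((hovF γ).1 hγl)
    refine ⟨ψ, ⟨(hoverJ ψ) ▸ hψ, by rw [hmult χ β hrel ψ γ hrel']; exact hγ⟩, ?_⟩
    rintro ψ' ⟨hψ', hm'⟩
    obtain ⟨γ', hrel'', hγ'⟩ := exists_right hπJ hqJ hΦJ hMJ hcJ ψ' ((hoverJ ψ').symm ▸ hψ')
    rw [hmult χ β hrel ψ' γ' hrel''] at hm'
    rw [hu γ' hm'] at hrel''
    exact Subtype.ext (hrel''.eq_left hπJ hrel')
  · obtain ⟨β, hrel, hβ⟩ := exists_right T.surj hq T.Φ_irr hM hcG χ ((hover χ).1 hov)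
    obtain ⟨β', hrel2, hβ'⟩ := exists_right T.surj hq T.Φ_irr hM hcG χ' ((hover χ').1 hov')
    obtain ⟨γ, hrel', hγ⟩ := exists_right hπJ hqJ hΦJ hMJ hcJ ψ ((hoverJ ψ).symm ▸ hψ)
    rw [hmult χ β hrel ψ γ hrel'] at hm
    rw [hmult χ' β' hrel2 ψ γ hrel'] at hm'
    have e := c2 β β' ((hinvG χ β hrel).1 hχ) ((hinvG χ' β' hrel2).1 hχ') ((hovQ β).2 hβ)
      ((hovQ β').2 hβ') γ hm hm'
    rw [← e] at hrel2
    exact Subtype.ext (hrel.eq_left T.surj hrel2)
  · obtain ⟨γ, hrel', hγ⟩ := exists_right hπJ hqJ hΦJ hMJ hcJ ψ ((hoverJ ψ).symm ▸ hψ)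
    refine ⟨fun t x => ?_, ?_⟩
    · have hJh : ∀ (s : A), ∀ e ∈ Jh, T.b s e ∈ Jh := fun s e he => by
        show T.π (T.b s e) ∈ J
        rw [T.π_b]
        exact hJ s _ he
      have := (hrel'.inv_iff hπJ hqJ hΦJ hMJ (IsIrr.isCharacter γ.2) (restrictOp T.b Jh hJh t)
        (restrictOp a J hJ t) (MulEquiv.refl _) (fun e => Subtype.ext (T.π_b t e))
        (fun e => Subtype.ext ((hbc t e).symm.trans ((hJfix e).1 e.2 t))) (fun e => T.Φ_b t e)).2
        fun _ => rfl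
      exact this x
    · obtain ⟨β, hb1, hb2, hm⟩ := c3 γ ((hovF γ).2 hγ)
      obtain ⟨χ, hrel, hχ⟩ := exists_left T.surj hq T.Φ_irr hM hcG β ((hovQ β).1 hb2)
      exact ⟨χ, (hinvG χ β hrel).2 hb1, (hover χ).2 hχ, by rw [hmult χ β hrel ψ γ hrel']; exact hm⟩

end Cfsg.Agent.Char.OddCorr
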