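import Cfsg.Agent.Char.Glauberman.Basic
import Cfsg.Agent.Coprime.Baer

/-!
A group of odd order with coprime operators, of the shape `K · C(A)` with `K` of class two and
`C_K(A)` central, carries an involutive automorphism with the same fixed points as the operators.
-/

set_option autoImplicit false

namespace Cfsg.Agent.Char.OddCorr

open Subgroup Cfsg.Agent.Char.Glauberman Cfsg.Agent.Coprime
open scoped commutatorElement

universe u v

variable {G : Type u} [Group G] {A : Type v} [Group A]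

/-- The central situation. -/
structure Setting (a : A →* MulAut G) (K Z : Subgroup G) : Prop where
  odd : Odd (Nat.card G)
  cop : (Nat.card G).Coprime (Nat.card A)
  normal : K.Normal
  inv : ∀ (t : A), ∀ k ∈ K, a t k ∈ K
  central : Z ≤ center G
  comm : ∀ x ∈ K, ∀ y ∈ K, ⁅x, y⁆ ∈ Z
  fixed_inter : K ⊓ Fixed a = Z
  sup : K ⊔ Fixed a = ⊤

variable {a : A →* MulAut G} {K Z : Subgroup G}

theorem Setting.le (h : Setting a K Z) : Z ≤ K := h.fixed_inter ▸ inf_le_left

theorem Setting.fixed (h : Setting a K Z) {z : G} (hz : z ∈ Z) (t : A) : a t z = z :=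
  (h.fixed_inter ▸ hz : z ∈ K ⊓ Fixed a).2 t

/-- Existence of the inversion of `K / Z`. -/
theorem exists_inversion_aux [Finite G] [Finite A] (h : Setting a K Z) :
    ∃ ι₀ : K →* K, (∀ z : K, (z : G) ∈ Z → ι₀ z = z) ∧
      (∀ k : K, ((ι₀ k : G) * k) ∈ Z) ∧
      (∀ k : K, ι₀ (ι₀ k) = k) ∧
      (∀ (t : A) (k : K), (ι₀ ⟨a t k, h.inv t k k.2⟩ : G) = a t (ι₀ k)) ∧
      (∀ c ∈ Fixed a, ∀ k k' : K, (k' : G) = c * k * c⁻¹ → (ι₀ k' : G) = c * ι₀ k * c⁻¹) := by
  classical
  haveI := h.normal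
  haveI := Fintype.ofFinite A
  have hcl : commutator K ≤ center K := by
    rw [commutator_def, commutator_le]
    intro x _ y _
    refine mem_center_iff.mpr fun g => Subtype.ext ?_
    exact mem_center_iff.mp (h.central (h.comm x x.2 y y.2)) g
  obtain ⟨j, hj⟩ := h.odd
  set e2 := j + 1 with he2
  have hk : ∀ x y : K, ⁅x, y⁆ ^ e2 * ⁅x, y⁆ ^ e2 = ⁅x, y⁆ := by
    intro x y
    apply Subtype.ext
    push_cast
    rw [← pow_add, show e2 + e2 = Nat.card G + 1 by omega, pow_succ, pow_card_eq_one', one_mul]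
  letI : CommGroup (BaerAdd K) := baerCommGroup e2 hcl hk
  let eqv : BaerAdd K ≃ K := ⟨fun b => b.val, BaerAdd.mk, fun _ => rfl, fun _ => rfl⟩
  haveI : Finite (BaerAdd K) := Finite.of_equiv _ eqv.symm
  -- transported endomorphisms
  let L : (K →* K) → (BaerAdd K →* BaerAdd K) := fun φ =>
    { toFun := fun b => ⟨φ b.val⟩
      map_one' := by
        show BaerAdd.mk (φ 1) = BaerAdd.mk 1
        rw [map_one]
      map_mul' := fun x y => by
        show BaerAdd.mk (φ (x.val * y.val * ⁅y.val, x.val⁆ ^ e2)) = BaerAdd.mk _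
        rw [map_mul, map_mul, map_pow, map_commutatorElement] }
  let op : A → (K →* K) := fun t => MonoidHom.mk' (fun k => ⟨a t k, h.inv t k k.2⟩)
    fun x y => Subtype.ext (by simp)
  obtain ⟨m, hm⟩ : ∃ m : ℕ, Nat.card A * m ≡ 1 [MOD Nat.card G] := by
    obtain ⟨k, hk0, hk1⟩ := Nat.chineseRemainder h.cop.symm 0 1
    obtain ⟨m, rfl⟩ := Nat.modEq_zero_iff_dvd.1 hk0
    exact ⟨m, hk1⟩
  let f : BaerAdd K →* BaerAdd K := (∏ t : A, L (op t)) ^ m
  have hf : ∀ b, f b = (∏ t : A, L (op t) b) ^ m := fun b => by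
    simp [f, MonoidHom.finsetProd_apply]
  have hfix : ∀ b : BaerAdd K, (∀ t : A, L (op t) b = b) → f b = b := fun b hb => by
    rw [hf, Finset.prod_congr rfl fun t _ => hb t, Finset.prod_const, Finset.card_univ,
      ← Nat.card_eq_fintype_card, ← pow_mul]
    conv_rhs => rw [← pow_one b]
    refine pow_eq_pow_iff_modEq.2 (hm.of_dvd ?_)
    refine dvd_trans (orderOf_dvd_natCard b) ?_
    rw [Nat.card_congr eqv]
    exact Subgroup.card_subgroup_dvd_card K
  have hfL : ∀ (t : A) b, L (op t) (f b) = f b := fun t b => by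
    rw [hf, map_pow, map_prod]
    congr 1
    refine Fintype.prod_equiv (Equiv.mulLeft t) _ _ fun s => ?_
    show BaerAdd.mk _ = BaerAdd.mk _
    congr 1
    exact Subtype.ext (by simp [L, op])
  have hfcomm : ∀ (t : A) b, f (L (op t) b) = L (op t) (f b) := fun t b => by
    rw [hfL, hf, hf]
    congr 1
    refine Fintype.prod_equiv (Equiv.mulRight t) _ _ fun s => ?_
    show BaerAdd.mk _ = BaerAdd.mk _
    congr 1
    exact Subtype.ext (by simp [L, op])
  have hfZ : ∀ b, ((f b).val : G) ∈ Z := fun b => by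
    rw [← h.fixed_inter]
    refine ⟨(f b).val.2, fun t => ?_⟩
    exact congrArg (fun x : BaerAdd K => (x.val : G)) (hfL t b)
  have hZfix : ∀ b : BaerAdd K, (b.val : G) ∈ Z → ∀ t, L (op t) b = b := fun b hb t => by
    show BaerAdd.mk _ = b
    exact congrArg BaerAdd.mk (Subtype.ext (h.fixed hb t))
  let g : BaerAdd K →* BaerAdd K := f * f * (MonoidHom.id _)⁻¹
  have hg : ∀ b, g b = f b * f b * b⁻¹ := fun b => rfl
  -- the product with a central element is the plain product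
  have hmulZ : ∀ x y : BaerAdd K, (x.val : G) ∈ Z → (x * y).val = x.val * y.val := by
    intro x y hx
    show x.val * y.val * ⁅y.val, x.val⁆ ^ e2 = _
    rw [commutatorElement_eq_one_iff_mul_comm.mpr
      (Subtype.ext (mem_center_iff.mp (h.central hx) y.val)), one_pow, mul_one]
  have hgZ : ∀ b, ∃ z : K, (z : G) ∈ Z ∧ (g b).val = z * (b.val)⁻¹ := fun b => by
    refine ⟨(f b).val * (f b).val, Z.mul_mem (hfZ b) (hfZ b), ?_⟩
    rw [hg, hmulZ _ _ (by rw [hmulZ _ _ (hfZ b)]; exact Z.mul_mem (hfZ b) (hfZ b)),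
      hmulZ _ _ (hfZ b)]
    rfl
  have hgcomm : ∀ x y : BaerAdd K, ⁅(g x).val, (g y).val⁆ = ⁅x.val, y.val⁆ := by
    intro x y
    obtain ⟨z, hz, hzx⟩ := hgZ x
    obtain ⟨w, hw, hwy⟩ := hgZ y
    have hzc : z ∈ center K := mem_center_iff.mpr fun u =>
      Subtype.ext (mem_center_iff.mp (h.central hz) u)
    have hwc : w ∈ center K := mem_center_iff.mpr fun u =>
      Subtype.ext (mem_center_iff.mp (h.central hw) u)
    have hc1 : ∀ u : K, ⁅z, u⁆ = 1 := fun u =>
      commutatorElement_eq_one_iff_mul_comm.mpr (mem_center_iff.mp hzc u).symm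
    have hc2 : ∀ u : K, ⁅u, w⁆ = 1 := fun u =>
      commutatorElement_eq_one_iff_mul_comm.mpr (mem_center_iff.mp hwc u)
    rw [hzx, hwy, Fusion.commutatorElement_mul_left_of_le_center hcl, hc1, one_mul,
      Fusion.commutatorElement_mul_right_of_le_center hcl, hc2, one_mul]
    have e1 : ⁅x.val⁻¹, (y.val)⁻¹⁆ = ⁅x.val, (y.val)⁻¹⁆⁻¹ := by
      apply eq_inv_of_mul_eq_one_left
      rw [← Fusion.commutatorElement_mul_left_of_le_center hcl, inv_mul_cancel,
        commutatorElement_one_left]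
    have e3 : ⁅x.val, (y.val)⁻¹⁆ = ⁅x.val, y.val⁆⁻¹ := by
      apply eq_inv_of_mul_eq_one_left
      rw [← Fusion.commutatorElement_mul_right_of_le_center hcl, inv_mul_cancel,
        commutatorElement_one_right]
    rw [e1, e3, inv_inv]
  -- the group product through the Baer product
  have hprod : ∀ x y : BaerAdd K, x.val * y.val = (x * y).val * (⁅y.val, x.val⁆ ^ e2)⁻¹ := by
    intro x y
    show _ = x.val * y.val * ⁅y.val, x.val⁆ ^ e2 * _
    rw [mul_inv_cancel_right]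
  have hgfixZ : ∀ b : BaerAdd K, (b.val : G) ∈ Z → g b = b := fun b hb => by
    rw [hg, hfix b (hZfix b hb), mul_inv_cancel_right]
  let ι₀ : K →* K := MonoidHom.mk' (fun k => (g ⟨k⟩).val) fun x y => by
    have hc : ((⁅y, x⁆ ^ e2)⁻¹ : K).1 ∈ Z := by
      push_cast
      exact Z.inv_mem (Z.pow_mem (h.comm y y.2 x x.2) _)
    have e1 : (⟨x * y⟩ : BaerAdd K) =
        (⟨(⁅y, x⁆ ^ e2)⁻¹⟩ : BaerAdd K) * ((⟨x⟩ : BaerAdd K) * ⟨y⟩) := by
      show BaerAdd.mk _ = _
      refine congrArg BaerAdd.mk ?_ |>.trans (congrArg BaerAdd.mk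
        (hmulZ (⟨(⁅y, x⁆ ^ e2)⁻¹⟩ : BaerAdd K) ((⟨x⟩ : BaerAdd K) * ⟨y⟩) hc).symm)
      show x * y = (⁅y, x⁆ ^ e2)⁻¹ * (x * y * ⁅y, x⁆ ^ e2)
      have hcc : (⁅y, x⁆ ^ e2) ∈ center K :=
        (center K).pow_mem (hcl (commutator_mem_commutator (mem_top y) (mem_top x))) _
      rw [mem_center_iff.mp hcc (x * y), inv_mul_cancel_left]
    show (g ⟨x * y⟩).val = (g ⟨x⟩).val * (g ⟨y⟩).val
    rw [e1, map_mul, map_mul, hgfixZ _ hc, hprod (g ⟨x⟩) (g ⟨y⟩), hgcomm ⟨y⟩ ⟨x⟩,
      hmulZ _ _ hc]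
    exact Subtype.ext (mem_center_iff.mp (h.central hc) _).symm
  have hι : ∀ k, ι₀ k = (g ⟨k⟩).val := fun _ => rfl
  refine ⟨ι₀, fun z hz => ?_, fun k => ?_, fun k => ?_, fun t k => ?_, fun c hc k k' hkk' => ?_⟩
  · rw [hι, hgfixZ ⟨z⟩ hz]
  · obtain ⟨z, hz, hzk⟩ := hgZ ⟨k⟩
    rw [hι, hzk]
    simpa using hz
  · obtain ⟨z, hz, hzk⟩ := hgZ ⟨k⟩
    have e1 : ι₀ k = z * k⁻¹ := (hι k).trans hzk
    have ez : ι₀ z = z := by rw [hι, hgfixZ ⟨z⟩ hz]
    have hzc : ∀ u : K, u * z = z * u := fun u =>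
      Subtype.ext (mem_center_iff.mp (h.central hz) u)
    rw [e1, map_mul, map_inv, ez, e1, mul_inv_rev, inv_inv, ← mul_assoc, ← hzc k,
      mul_inv_cancel_right]
  · rw [hι]
    have e1 : g (L (op t) ⟨k⟩) = L (op t) (g ⟨k⟩) := by
      simp only [hg, map_mul, map_inv, hfcomm]
    exact congrArg (fun b : BaerAdd K => (b.val : G)) e1
  · let cj : K →* K := MonoidHom.mk' (fun u => ⟨c * u * c⁻¹, h.normal.conj_mem u u.2 c⟩)
      fun x y => Subtype.ext (by simp [mul_assoc])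
    have e0 : k' = cj k := Subtype.ext hkk'
    have hcf : ∀ b, f (L cj b) = L cj (f b) := fun b => by
      rw [hf, hf, map_pow, map_prod]
      congr 1
      refine Finset.prod_congr rfl fun s _ => ?_
      show BaerAdd.mk _ = BaerAdd.mk _
      congr 1
      refine Subtype.ext ?_
      show a s (c * (b.val : G) * c⁻¹) = c * a s b.val * c⁻¹
      rw [map_mul, map_mul, map_inv, hc s]
    rw [hι, hι, e0]
    have e1 : g (L cj ⟨k⟩) = L cj (g ⟨k⟩) := by simp only [hg, map_mul, map_inv, hcf]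
    exact congrArg (fun b : BaerAdd K => (b.val : G)) e1

/-- The involutive automorphism. -/
theorem exists_inversion [Finite G] [Finite A] (h : Setting a K Z) :
    ∃ ι : MulAut G, ι * ι = 1 ∧ (∀ (t : A) (g : G), ι (a t g) = a t (ι g)) ∧
      (∀ g : G, ι g = g ↔ g ∈ Fixed a) ∧ (∀ g : G, ι g * g⁻¹ ∈ K) := by
  classical
  haveI := h.normal
  obtain ⟨ι₀, hZ, hneg, hinv, hop, hconj⟩ := exists_inversion_aux h
  have hdec : ∀ g : G, ∃ k : K, ∃ c ∈ Fixed a, g = k * c := fun g => by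
    have hg : g ∈ K ⊔ Fixed a := h.sup ▸ mem_top g
    obtain ⟨k, hk, c, hc, rfl⟩ := mem_sup_of_normal_left.1 hg
    exact ⟨⟨k, hk⟩, c, hc, rfl⟩
  choose kf cf hcf heq using hdec
  let F : G → G := fun g => (ι₀ (kf g) : G) * cf g
  have hF : ∀ (k : K) (c : G), c ∈ Fixed a → F (k * c) = ι₀ k * c := by
    intro k c hc
    have e := heq ((k : G) * c)
    set k' := kf ((k : G) * c)
    set c' := cf ((k : G) * c)
    have hz : ((k'⁻¹ * k : K) : G) ∈ Z := by
      rw [← h.fixed_inter]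
      refine ⟨(k'⁻¹ * k).2, ?_⟩
      have e2 : ((k'⁻¹ * k : K) : G) = c' * c⁻¹ := by
        push_cast
        rw [eq_mul_inv_iff_mul_eq, mul_assoc, inv_mul_eq_iff_eq_mul]
        exact e
      rw [e2]
      exact (Fixed a).mul_mem (hcf _) ((Fixed a).inv_mem hc)
    have e1 : ι₀ k = ι₀ k' * (k'⁻¹ * k) := by
      rw [← hZ _ hz, ← map_mul, mul_inv_cancel_left]
    show (ι₀ k' : G) * c' = _
    rw [e1]
    push_cast
    rw [mul_assoc, mul_right_inj, mul_assoc, e, inv_mul_cancel_left]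
  have hmul : ∀ g g', F (g * g') = F g * F g' := by
    intro g g'
    set k := kf g
    set c := cf g
    set k' := kf g'
    set c' := cf g'
    let k'' : K := ⟨c * k' * c⁻¹, h.normal.conj_mem k' k'.2 c⟩
    have e : g * g' = ((k * k'' : K) : G) * (c * c') := by
      conv_lhs => rw [heq g, heq g']
      show (k : G) * c * (k' * c') = k * (c * k' * c⁻¹) * (c * c')
      group
    rw [e, hF _ _ ((Fixed a).mul_mem (hcf g) (hcf g')), map_mul]
    push_cast
    rw [hconj c (hcf g) k' k'' rfl]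
    show (ι₀ k : G) * (c * ι₀ k' * c⁻¹) * (c * c') = ι₀ k * c * (ι₀ k' * c')
    group
  have hFF : ∀ g, F (F g) = g := fun g => by
    show F ((ι₀ (kf g) : G) * cf g) = g
    rw [hF _ _ (hcf g), hinv]
    exact (heq g).symm
  let ι : MulAut G :=
    { toFun := F, invFun := F, left_inv := hFF, right_inv := hFF, map_mul' := hmul }
  refine ⟨ι, MulEquiv.ext hFF, fun t g => ?_, fun g => ⟨fun e => ?_, fun hg => ?_⟩, fun g => ?_⟩
  · show F (a t g) = a t (F g)
    conv_lhs => rw [heq g, map_mul, hcf g t]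
    rw [hF ⟨a t (kf g), h.inv t _ (kf g).2⟩ _ (hcf g)]
    show _ = a t ((ι₀ (kf g) : G) * cf g)
    rw [map_mul, hcf g t, hop]
  · have e0 : (ι₀ (kf g) : G) = kf g := by
      have := e.trans (heq g)
      exact mul_right_cancel this
    have h1 := hneg (kf g)
    rw [e0] at h1
    have h2 : (kf g : G) ∈ Z := by
      obtain ⟨j, hj⟩ := h.odd
      have : (kf g : G) = ((kf g : G) * kf g) ^ (j + 1) := by
        rw [← sq, ← pow_mul, show 2 * (j + 1) = Nat.card G + 1 by omega, pow_succ, pow_card_eq_one',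
          one_mul]
      rw [this]
      exact Z.pow_mem h1 _
    rw [heq g]
    exact (Fixed a).mul_mem (h.fixed_inter ▸ h2 : (kf g : G) ∈ K ⊓ Fixed a).2 (hcf g)
  · show F g = g
    conv_lhs => rw [← one_mul g, ← OneMemClass.coe_one K]
    rw [hF 1 g hg, map_one, OneMemClass.coe_one, one_mul]
  · show F g * g⁻¹ ∈ K
    show (ι₀ (kf g) : G) * cf g * g⁻¹ ∈ K
    conv => enter [2, 2, 1]; rw [heq g]
    show (ι₀ (kf g) : G) * cf g * ((kf g : G) * cf g)⁻¹ ∈ K
    rw [show (ι₀ (kf g) : G) * cf g * ((kf g : G) * cf g)⁻¹ = ι₀ (kf g) * (kf g : G)⁻¹ by group]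
    exact K.mul_mem (ι₀ (kf g)).2 (K.inv_mem (kf g).2)

end Cfsg.Agent.Char.OddCorr
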