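import Cfsg.Agent.Char.OddCorr.Step

/-!
The odd-multiplicity correspondence for coprime operators on a group of odd order.
-/

set_option autoImplicit false

namespace Cfsg.Agent.Char.OddCorr

open Subgroup Cfsg.Agent.Char.Glauberman
open scoped commutatorElement

universe u v

variable {G : Type u} [Group G] [Fintype G] {A : Type v} [Group A] [Finite A]

theorem reduced_corr {a : A →* MulAut G} {K L H : Subgroup G} (h : Reduced a K L H) [L.Normal]
    [Fintype H] (hH : ∀ (t : A), ∀ x ∈ H, a t x ∈ H) :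
    (∀ χ : IrrCharacter G, InvFun a (χ : G → ℂ) →
      ∃! ψ : IrrCharacter H, InvFun (restrictOp a H hH) (ψ : H → ℂ) ∧ Odd (mult H χ ψ)) ∧
    (∀ χ χ' : IrrCharacter G, InvFun a (χ : G → ℂ) → InvFun a (χ' : G → ℂ) →
      ∀ ψ : IrrCharacter H, InvFun (restrictOp a H hH) (ψ : H → ℂ) →
      Odd (mult H χ ψ) → Odd (mult H χ' ψ) → χ = χ') ∧
    (∀ ψ : IrrCharacter H, InvFun (restrictOp a H hH) (ψ : H → ℂ) →
      ∃ χ : IrrCharacter G, InvFun a (χ : G → ℂ) ∧ Odd (mult H χ ψ)) := by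
  classical
  haveI := h.solv
  letI : Fintype L := Fintype.ofFinite _
  have hLn : L.Normal := inferInstance
  have hLH : L ≤ H := h.H_eq ▸ le_sup_left
  have hCH : Fixed a ≤ H := h.H_eq ▸ le_sup_right
  letI : Fintype (L.subgroupOf H) := Fintype.ofFinite _
  haveI : (L.subgroupOf H).Normal := Subgroup.normal_subgroupOf
  have hLHinv : ∀ (t : A), ∀ x ∈ L.subgroupOf H, restrictOp a H hH t x ∈ L.subgroupOf H :=
    fun t x hx => h.Linv t _ hx
  -- an invariant constituent on `L`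
  have hcon : ∀ ψ : IrrCharacter H, InvFun (restrictOp a H hH) (ψ : H → ℂ) →
      ∃ φ : IrrCharacter L, InvFun (restrictOp a L h.Linv) (φ : L → ℂ) ∧
        classInner (fun n : L => (ψ : H → ℂ) ⟨n, hLH n.2⟩) (φ : L → ℂ) ≠ 0 := by
    intro ψ hψ
    obtain ⟨η, hne, hinv⟩ := exists_inv_constituent (restrictOp a H hH) (L.subgroupOf H) hLHinv
      (h.cop.coprime_dvd_left
        ((Subgroup.index_dvd_card _).trans (Subgroup.card_subgroup_dvd_card H)))
      (Or.inr inferInstance) ψ hψ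
    refine ⟨irrEquiv (Subgroup.subgroupOfEquivOfLe hLH).symm η,
      fun t n => hinv t ((Subgroup.subgroupOfEquivOfLe hLH).symm n), ?_⟩
    rw [← ProjExt.classInner_subgroupOf L H hLH]
    have e : (fun x : L.subgroupOf H =>
        (irrEquiv (Subgroup.subgroupOfEquivOfLe hLH).symm η : L → ℂ)
          ⟨((x : H) : G), Subgroup.mem_subgroupOf.1 x.2⟩) = (η : L.subgroupOf H → ℂ) :=
      funext fun x => congrArg (η : L.subgroupOf H → ℂ) (Subtype.ext (Subtype.ext rfl))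
    rw [e]
    show classInner (fun n : L.subgroupOf H => (ψ : H → ℂ) n) (η : L.subgroupOf H → ℂ) ≠ 0
    rw [mult_spec]
    exact_mod_cast hne
  -- constituents go up
  have hup : ∀ (χ : IrrCharacter G) (ψ : IrrCharacter H) (φ : IrrCharacter L), mult H χ ψ ≠ 0 →
      classInner (fun n : L => (ψ : H → ℂ) ⟨n, hLH n.2⟩) (φ : L → ℂ) ≠ 0 → mult L χ φ ≠ 0 := by
    intro χ ψ φ h1 h2
    refine mult_trans L H hLH χ ψ φ h1 fun e0 => h2 ?_
    have e := mult_spec (L.subgroupOf H) ψ (irrEquiv (Subgroup.subgroupOfEquivOfLe hLH) φ)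
    rw [e0, Nat.cast_zero] at e
    rw [← e]
    exact (ProjExt.classInner_subgroupOf L H hLH (fun n => (ψ : H → ℂ) ⟨n, hLH n.2⟩)
      (φ : L → ℂ)).symm
  refine ⟨fun χ hχ => ?_, fun χ χ' hχ hχ' ψ hψ hm hm' => ?_, fun ψ hψ => ?_⟩
  · obtain ⟨φ, hne, hφ⟩ := exists_inv_constituent a L h.Linv
      (h.cop.coprime_dvd_left (Subgroup.index_dvd_card L)) (Or.inr inferInstance) χ hχ
    obtain ⟨ψ, hψ, hm, hu⟩ := (step h hLH hH φ hφ).1 χ hχ hne
    refine ⟨ψ, ⟨hψ, hm⟩, ?_⟩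
    rintro ψ' ⟨hψ', hm'⟩
    refine hu ψ' ?_ hm'
    obtain ⟨φ', hφ', hψφ⟩ := hcon ψ' hψ'
    have hne' := hup χ ψ' φ' hm'.pos.ne' hψφ
    obtain ⟨g, hg⟩ := mem_orbit.1 (constituent_mem_orbit χ.2 φ.2 φ'.2
      (by rw [mult_spec]; exact_mod_cast hne) (by rw [mult_spec]; exact_mod_cast hne'))
    -- a fixed conjugating element
    have hconjt : ∀ t : A, conjFun (a t g) (φ : L → ℂ) = (φ' : L → ℂ) := by
      intro t
      funext l
      let l0 : L := ⟨a t⁻¹ l, h.Linv t⁻¹ l l.2⟩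
      have e1 : (φ : L → ℂ) ⟨g * l0 * g⁻¹, hLn.conj_mem (l0 : G) l0.2 g⟩ = (φ' : L → ℂ) l0 :=
        congrFun hg l0
      have e2 : restrictOp a L h.Linv t l0 = l := Subtype.ext (by
        show a t (a t⁻¹ (l : G)) = (l : G)
        simp)
      calc (φ : L → ℂ) ⟨a t g * l * (a t g)⁻¹, _⟩
          = (φ : L → ℂ) (restrictOp a L h.Linv t ⟨g * l0 * g⁻¹, hLn.conj_mem (l0 : G) l0.2 g⟩) :=
            congrArg (φ : L → ℂ) (Subtype.ext (by
              show a t g * (l : G) * (a t g)⁻¹ = a t (g * a t⁻¹ (l : G) * g⁻¹)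
              simp))
        _ = (φ' : L → ℂ) l0 := by rw [hφ, e1]
        _ = (φ' : L → ℂ) l := by rw [← hφ' t l0, e2]
    have hinvI : ∀ (t : A), ∀ x ∈ inertia (φ : L → ℂ), a t x ∈ inertia (φ : L → ℂ) := by
      intro t x hx
      rw [mem_inertia] at hx ⊢
      funext l
      let l0 : L := ⟨a t⁻¹ l, h.Linv t⁻¹ l l.2⟩
      have e1 : (φ : L → ℂ) ⟨x * l0 * x⁻¹, hLn.conj_mem (l0 : G) l0.2 x⟩ = (φ : L → ℂ) l0 :=
        congrFun hx l0
      have e2 : restrictOp a L h.Linv t l0 = l := Subtype.ext (by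
        show a t (a t⁻¹ (l : G)) = (l : G)
        simp)
      calc (φ : L → ℂ) ⟨a t x * l * (a t x)⁻¹, _⟩
          = (φ : L → ℂ) (restrictOp a L h.Linv t ⟨x * l0 * x⁻¹, hLn.conj_mem (l0 : G) l0.2 x⟩) :=
            congrArg (φ : L → ℂ) (Subtype.ext (by
              show a t x * (l : G) * (a t x)⁻¹ = a t (x * a t⁻¹ (l : G) * x⁻¹)
              simp))
        _ = (φ : L → ℂ) l0 := by rw [hφ, e1]
        _ = (φ : L → ℂ) l := by rw [← hφ t l0, e2]
    obtain ⟨c, hc, hcI⟩ := exists_fixed_coset a (inertia (φ : L → ℂ)) hinvI h.cop inferInstance g⁻¹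
      fun t => by
        rw [inv_inv, map_inv, mem_inertia, ← conjFun_conjFun, hg, ← hconjt t]
        exact conjFun_inv_cancel _ _
    rw [inv_inv] at hcI
    have hd : (φ' : L → ℂ) = conjFun c⁻¹ (φ : L → ℂ) := by
      conv_rhs => rw [← mem_inertia.1 hcI, conjFun_conjFun, mul_inv_cancel_right, hg]
    intro e0
    apply hψφ
    rw [hd, ← e0, ← classInner_conjFun c⁻¹ (fun n : L => (ψ' : H → ℂ) ⟨n, hLH n.2⟩) (φ : L → ℂ)]
    congr 1
    funext n
    rw [conjFun_apply]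
    have hcH : c⁻¹ ∈ H := hCH ((Fixed a).inv_mem hc)
    rw [← isClassFunction_of_isIrr ψ'.2 ⟨n, hLH n.2⟩ ⟨c⁻¹, hcH⟩]
    exact congrArg (ψ' : H → ℂ) (Subtype.ext (by simp))
  · obtain ⟨φ, hφ, hψφ⟩ := hcon ψ hψ
    exact (step h hLH hH φ hφ).2.1 χ χ' hχ hχ' (hup χ ψ φ hm.pos.ne' hψφ)
      (hup χ' ψ φ hm'.pos.ne' hψφ) ψ hψφ hm hm'
  · obtain ⟨φ, hφ, hψφ⟩ := hcon ψ hψ
    exact (step h hLH hH φ hφ).2.2 ψ hψφ

theorem odd_correspondence (a : A →* MulAut G) (hodd : Odd (Nat.card G))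
    (hcop : (Nat.card G).Coprime (Nat.card A)) (hsol : Group.IsSolvable G) (K L H : Subgroup G)
    [K.Normal] [L.Normal] (hKinv : ∀ (t : A), ∀ k ∈ K, a t k ∈ K)
    (hLinv : ∀ (t : A), ∀ l ∈ L, a t l ∈ L) (hLK : L ≤ K)
    (hcomm : ∀ x ∈ K, ∀ y ∈ K, ⁅x, y⁆ ∈ L) (hsup : K ⊔ Fixed a = ⊤) (hHeq : H = L ⊔ Fixed a)
    [Fintype H] (hH : ∀ (t : A), ∀ x ∈ H, a t x ∈ H) :
    (∀ χ : IrrCharacter G, InvFun a (χ : G → ℂ) →
      ∃! ψ : IrrCharacter H, InvFun (restrictOp a H hH) (ψ : H → ℂ) ∧ Odd (mult H χ ψ)) ∧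
    (∀ χ χ' : IrrCharacter G, InvFun a (χ : G → ℂ) → InvFun a (χ' : G → ℂ) →
      ∀ ψ : IrrCharacter H, InvFun (restrictOp a H hH) (ψ : H → ℂ) →
      Odd (mult H χ ψ) → Odd (mult H χ' ψ) → χ = χ') ∧
    (∀ ψ : IrrCharacter H, InvFun (restrictOp a H hH) (ψ : H → ℂ) →
      ∃ χ : IrrCharacter G, InvFun a (χ : G → ℂ) ∧ Odd (mult H χ ψ)) := by
  classical
  haveI := hsol
  haveI := Fintype.ofFinite A
  set S : Set G := {x | ∃ k ∈ K, ∃ t : A, x = k⁻¹ * a t k} with hS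
  set K₁ : Subgroup G := L ⊔ Subgroup.closure S with hK₁
  have hgen : ∀ k ∈ K, ∀ t : A, k⁻¹ * a t k ∈ K₁ := fun k hk t =>
    Subgroup.mem_sup_right (Subgroup.subset_closure ⟨k, hk, t, rfl⟩)
  have hSK : S ⊆ (K : Set G) := by
    rintro x ⟨k, hk, t, rfl⟩
    exact K.mul_mem (K.inv_mem hk) (hKinv t k hk)
  have hK₁K : K₁ ≤ K := sup_le hLK ((Subgroup.closure_le K).2 hSK)
  have hLK₁ : L ≤ K₁ := le_sup_left
  have hC : ∀ c ∈ Fixed a, ∀ x ∈ K₁, c * x * c⁻¹ ∈ K₁ := by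
    intro c hc
    have hle : K₁ ≤ K₁.comap (MulAut.conj c).toMonoidHom := by
      refine sup_le (fun l hl => hLK₁ (‹L.Normal›.conj_mem l hl c)) ((Subgroup.closure_le _).2 ?_)
      rintro x ⟨k, hk, t, rfl⟩
      show c * (k⁻¹ * a t k) * c⁻¹ ∈ K₁
      rw [show c * (k⁻¹ * a t k) * c⁻¹ = (c * k * c⁻¹)⁻¹ * a t (c * k * c⁻¹) by
        rw [map_mul, map_mul, map_inv, hc t]; group]
      exact hgen _ (‹K.Normal›.conj_mem k hk c) t
    exact fun x hx => hle hx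
  have hK₁n : K₁.Normal := ⟨fun x hx g => by
    obtain ⟨k, hk, c, hc, rfl⟩ := mem_sup_of_normal_left.1 (hsup ▸ mem_top g : g ∈ K ⊔ Fixed a)
    have h1 := hC c hc x hx
    rw [show k * c * x * (k * c)⁻¹ = ⁅k, c * x * c⁻¹⁆ * (c * x * c⁻¹) by
      rw [commutatorElement_def]; group]
    exact K₁.mul_mem (hLK₁ (hcomm k hk _ (hK₁K h1))) h1⟩
  have hK₁inv : ∀ (t : A), ∀ x ∈ K₁, a t x ∈ K₁ := by
    intro s
    have hle : K₁ ≤ K₁.comap (a s).toMonoidHom := by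
      refine sup_le (fun l hl => hLK₁ (hLinv s l hl)) ((Subgroup.closure_le _).2 ?_)
      rintro x ⟨k, hk, t, rfl⟩
      show a s (k⁻¹ * a t k) ∈ K₁
      rw [show a s (k⁻¹ * a t k) = (k⁻¹ * a s k)⁻¹ * (k⁻¹ * a (s * t) k) by
        rw [map_mul, map_inv, map_mul a, MulAut.mul_apply]; group]
      exact K₁.mul_mem (K₁.inv_mem (hgen k hk s)) (hgen k hk (s * t))
    exact fun x hx => hle hx
  -- the norm map on `K / L`
  let LK : Subgroup K := L.subgroupOf K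
  haveI : LK.Normal := Subgroup.normal_subgroupOf
  letI : CommGroup (K ⧸ LK) :=
    { (inferInstance : Group (K ⧸ LK)) with
      mul_comm := fun x y => QuotientGroup.induction_on x fun x => QuotientGroup.induction_on y
        fun y => QuotientGroup.eq.2 (by
          show (((x * y)⁻¹ * (y * x) : K) : G) ∈ L
          have := hcomm _ (K.inv_mem y.2) _ (K.inv_mem x.2)
          rw [commutatorElement_def] at this
          push_cast
          rwa [show ((x : G) * y)⁻¹ * (y * x) = (y : G)⁻¹ * (x : G)⁻¹ * (y : G)⁻¹⁻¹ * (x : G)⁻¹⁻¹ by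
            group]) }
  let Nm : K →* K ⧸ LK :=
    ∏ t : A, (QuotientGroup.mk' LK).comp (restrictOp a K hKinv t).toMonoidHom
  have hNm : ∀ k : K, Nm k = ∏ t : A, ((restrictOp a K hKinv t k : K) : K ⧸ LK) := fun k => by
    simp [Nm, MonoidHom.finsetProd_apply]
  have hNker : K₁ ≤ Nm.ker.map K.subtype := by
    refine sup_le (fun l hl => ⟨⟨l, hLK hl⟩, ?_, rfl⟩) ((Subgroup.closure_le _).2 ?_)
    · show Nm ⟨l, hLK hl⟩ = 1
      rw [hNm]
      exact Finset.prod_eq_one fun t _ => (QuotientGroup.eq_one_iff _).2 (hLinv t l hl)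
    · rintro x ⟨k, hk, t, rfl⟩
      refine ⟨(⟨k, hk⟩ : K)⁻¹ * restrictOp a K hKinv t ⟨k, hk⟩, ?_, rfl⟩
      show Nm _ = 1
      rw [map_mul, map_inv, inv_mul_eq_one, hNm, hNm]
      refine (Fintype.prod_equiv (Equiv.mulRight t) _ _ fun s => ?_).symm
      rw [← MulAut.mul_apply, ← map_mul]
      rfl
  have hinter : K₁ ⊓ Fixed a ≤ L := by
    rintro x ⟨hx, hf⟩
    obtain ⟨k, hk, rfl⟩ := hNker hx
    have e : Nm k = (k : K ⧸ LK) ^ Nat.card A := by
      rw [hNm, Finset.prod_congr rfl fun t _ => congrArg QuotientGroup.mk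
        (show restrictOp a K hKinv t k = k from Subtype.ext (hf t)), Finset.prod_const,
        Finset.card_univ, Nat.card_eq_fintype_card]
    rw [show Nm k = 1 from hk] at e
    have h2 : orderOf (k : K ⧸ LK) ∣ Nat.gcd (Nat.card G) (Nat.card A) :=
      Nat.dvd_gcd (((_root_.orderOf_dvd_natCard _).trans (Subgroup.card_quotient_dvd_card LK)).trans
        (Subgroup.card_subgroup_dvd_card K)) (orderOf_dvd_of_pow_eq_one e.symm)
    rw [hcop.gcd_eq_one, Nat.dvd_one, orderOf_eq_one_iff, QuotientGroup.eq_one_iff] at h2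
    exact h2
  have hsup₁ : K₁ ⊔ Fixed a = ⊤ := by
    rw [eq_top_iff, ← hsup]
    refine sup_le (fun k hk => ?_) le_sup_right
    obtain ⟨c, hc, hkc⟩ := exists_fixed_coset a K₁ hK₁inv hcop inferInstance k fun t => hgen k hk t
    rw [show k = k * (k⁻¹ * c)⁻¹ * k⁻¹ * c by group]
    exact Subgroup.mul_mem_sup (hK₁n.conj_mem _ (K₁.inv_mem hkc) k) hc
  have hred : Reduced a K₁ L H :=
    { odd := hodd, cop := hcop, solv := hsol, Knormal := hK₁n, Linv := hLinv, Kinv := hK₁inv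
      LK := hLK₁, comm := fun x hx y hy => hcomm x (hK₁K hx) y (hK₁K hy), sup := hsup₁
      inter := hinter, H_eq := hHeq }
  exact reduced_corr hred hH

end Cfsg.Agent.Char.OddCorr
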