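import Cfsg.Agent.Char.OddCorr.Inertial
import Cfsg.Agent.ProjExt.CliffordCorr

/-!
The correspondence for the characters over one invariant character of the bottom group.
-/

set_option autoImplicit false

namespace Cfsg.Agent.Char.OddCorr

open Subgroup Cfsg.Agent.Char.Glauberman
open scoped commutatorElement

universe u v

variable {G : Type u} [Group G] [Fintype G] {A : Type v} [Group A] [Finite A]

omit [Finite A] in
/-- Induction commutes with automorphisms preserving the subgroup. -/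
theorem indFun_comp_equiv (H : Subgroup G) (σ : G ≃* G) (τ : H ≃* H)
    (hστ : ∀ x : H, (τ x : G) = σ x) (θ : H → ℂ) (g : G) :
    indFun H (fun x => θ (τ x)) g = indFun H θ (σ g) := by
  classical
  simp only [indFun]
  congr 1
  refine Fintype.sum_equiv σ.toEquiv _ _ fun x => ?_
  show _ = extendByZero H θ ((σ x)⁻¹ * σ g * σ x)
  rw [← map_inv, ← map_mul, ← map_mul]
  by_cases hx : x⁻¹ * g * x ∈ H
  · rw [extendByZero_of_mem H _ hx, show σ (x⁻¹ * g * x) = (τ ⟨_, hx⟩ : G) from (hστ ⟨_, hx⟩).symm,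
      extendByZero_coe]
  · rw [extendByZero_of_not_mem H _ hx, extendByZero_of_not_mem H _ fun h => hx ?_]
    have e := hστ (τ.symm ⟨_, h⟩)
    rw [τ.apply_symm_apply] at e
    rw [σ.injective e]
    exact (τ.symm ⟨_, h⟩).2

/-- The reduced hypotheses. -/
structure Reduced (a : A →* MulAut G) (K L H : Subgroup G) : Prop where
  odd : Odd (Nat.card G)
  cop : (Nat.card G).Coprime (Nat.card A)
  solv : Group.IsSolvable G
  Knormal : K.Normal
  Linv : ∀ (t : A), ∀ l ∈ L, a t l ∈ L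
  Kinv : ∀ (t : A), ∀ k ∈ K, a t k ∈ K
  LK : L ≤ K
  comm : ∀ x ∈ K, ∀ y ∈ K, ⁅x, y⁆ ∈ L
  sup : K ⊔ Fixed a = ⊤
  inter : K ⊓ Fixed a ≤ L
  H_eq : H = L ⊔ Fixed a

/-- The correspondence for characters over `φ`. -/
theorem step {a : A →* MulAut G} {K L H : Subgroup G} (h : Reduced a K L H) [L.Normal] [Fintype L]
    [Fintype H] (hLH : L ≤ H) (hH : ∀ (t : A), ∀ x ∈ H, a t x ∈ H) (φ : IrrCharacter L)
    (hφ : InvFun (restrictOp a L h.Linv) (φ : L → ℂ)) :
    (∀ χ : IrrCharacter G, InvFun a (χ : G → ℂ) → mult L χ φ ≠ 0 →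
      ∃ ψ : IrrCharacter H, InvFun (restrictOp a H hH) (ψ : H → ℂ) ∧ Odd (mult H χ ψ) ∧
        ∀ ψ' : IrrCharacter H, classInner (fun n : L => (ψ' : H → ℂ) ⟨n, hLH n.2⟩) (φ : L → ℂ) ≠ 0 →
          Odd (mult H χ ψ') → ψ' = ψ) ∧
    (∀ χ χ' : IrrCharacter G, InvFun a (χ : G → ℂ) → InvFun a (χ' : G → ℂ) →
      mult L χ φ ≠ 0 → mult L χ' φ ≠ 0 → ∀ ψ : IrrCharacter H,
      classInner (fun n : L => (ψ : H → ℂ) ⟨n, hLH n.2⟩) (φ : L → ℂ) ≠ 0 →
      Odd (mult H χ ψ) → Odd (mult H χ' ψ) → χ = χ') ∧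
    (∀ ψ : IrrCharacter H, classInner (fun n : L => (ψ : H → ℂ) ⟨n, hLH n.2⟩) (φ : L → ℂ) ≠ 0 →
      ∃ χ : IrrCharacter G, InvFun a (χ : G → ℂ) ∧ Odd (mult H χ ψ)) := by
  classical
  haveI := h.Knormal
  have hLn : L.Normal := inferInstance
  set I : Subgroup G := inertia (φ : L → ℂ) with hIdef
  have hLI : L ≤ I := le_inertia (isClassFunction_of_isIrr φ.2)
  have hI : ∀ (t : A), ∀ x ∈ I, a t x ∈ I := by
    intro t x hx
    rw [hIdef, mem_inertia] at hx ⊢
    funext l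
    show (φ : L → ℂ) ⟨a t x * l * (a t x)⁻¹, _⟩ = (φ : L → ℂ) l
    let l0 : L := ⟨a t⁻¹ l, h.Linv t⁻¹ l l.2⟩
    have e1 : (φ : L → ℂ) ⟨x * l0 * x⁻¹, hLn.conj_mem (l0 : G) l0.2 x⟩ = (φ : L → ℂ) l0 :=
      congrFun hx l0
    have e2 : restrictOp a L h.Linv t l0 = l := Subtype.ext (by
      show a t (a t⁻¹ (l : G)) = (l : G)
      simp)
    calc (φ : L → ℂ) ⟨a t x * l * (a t x)⁻¹, _⟩
        = (φ : L → ℂ) (restrictOp a L h.Linv t ⟨x * l0 * x⁻¹, hLn.conj_mem (l0 : G) l0.2 x⟩) :=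
          congrArg (φ : L → ℂ) (Subtype.ext (by
            show a t x * (l : G) * (a t x)⁻¹ = a t (x * a t⁻¹ (l : G) * x⁻¹)
            simp))
      _ = (φ : L → ℂ) l0 := by rw [hφ, e1]
      _ = (φ : L → ℂ) l := by rw [← hφ t l0, e2]
  letI : Fintype I := Fintype.ofFinite _
  let aI : A →* MulAut I := restrictOp a I hI
  let L' : Subgroup I := L.subgroupOf I
  let K' : Subgroup I := K.subgroupOf I
  let J' : Subgroup I := H.subgroupOf I
  haveI : L'.Normal := Subgroup.normal_subgroupOf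
  letI : Fintype L' := Fintype.ofFinite _
  letI : Fintype J' := Fintype.ofFinite _
  have hfixI : ∀ x : I, x ∈ Fixed aI ↔ (x : G) ∈ Fixed a := fun x =>
    ⟨fun hx t => congrArg Subtype.val (hx t), fun hx t => Subtype.ext (hx t)⟩
  have hsol := h.solv
  have hIn : Inertial aI K' L' J' :=
    { odd := h.odd.of_dvd_nat (Subgroup.card_subgroup_dvd_card I)
      cop := h.cop.coprime_dvd_left (Subgroup.card_subgroup_dvd_card I)
      solv := by haveI := h.solv; infer_instance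
      Lnormal := Subgroup.normal_subgroupOf
      Knormal := Subgroup.normal_subgroupOf
      Linv := fun t l hl => h.Linv t _ hl
      Kinv := fun t l hl => h.Kinv t _ hl
      LK := fun x hx => h.LK hx
      comm := fun x hx y hy => by
        show ((⁅x, y⁆ : I) : G) ∈ L
        exact h.comm _ hx _ hy
      sup := by
        refine eq_top_iff.2 fun x _ => ?_
        haveI := hsol
        obtain ⟨c, hc, hxc⟩ := exists_fixed_coset a (K ⊓ I)
          (fun t n hn => ⟨h.Kinv t n hn.1, hI t n hn.2⟩) h.cop inferInstance (x : G) fun t => by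
            obtain ⟨k, hk, c, hc, hkc⟩ := mem_sup_of_normal_left.1
              (h.sup ▸ mem_top (x : G) : (x : G) ∈ K ⊔ Fixed a)
            refine ⟨?_, I.mul_mem (I.inv_mem x.2) (hI t _ x.2)⟩
            rw [← hkc, map_mul, hc t,
              show (k * c)⁻¹ * (a t k * c) = c⁻¹ * (k⁻¹ * a t k) * c⁻¹⁻¹ by group]
            exact h.Knormal.conj_mem _ (K.mul_mem (K.inv_mem hk) (h.Kinv t k hk)) _
        have hcI : c ∈ I := by
          have e := I.mul_mem x.2 hxc.2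
          rwa [mul_inv_cancel_left] at e
        have e : x = (x * (⟨c, hcI⟩ : I)⁻¹) * ⟨c, hcI⟩ := by rw [inv_mul_cancel_right]
        rw [e]
        refine Subgroup.mul_mem_sup ?_ ((hfixI _).2 hc)
        show ((x * (⟨c, hcI⟩ : I)⁻¹ : I) : G) ∈ K
        push_cast
        rw [show (x : G) * c⁻¹ = (x : G) * ((x : G)⁻¹ * c)⁻¹ * (x : G)⁻¹ by group]
        exact h.Knormal.conj_mem _ (K.inv_mem hxc.1) _
      inter := fun x hx => h.inter ⟨hx.1, (hfixI x).1 hx.2⟩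
      J_eq := by
        refine le_antisymm (fun x hx => ?_) (sup_le (fun x hx => hLH hx) fun x hx => ?_)
        · have hx' : (x : G) ∈ L ⊔ Fixed a := (SetLike.ext_iff.1 h.H_eq _).1 hx
          obtain ⟨l, hl, c, hc, hlc⟩ := mem_sup_of_normal_left.1 hx'
          have hcI : c ∈ I := by
            have e : c = l⁻¹ * (x : G) := by rw [← hlc, inv_mul_cancel_left]
            rw [e]
            exact I.mul_mem (I.inv_mem (hLI hl)) x.2
          rw [show x = (⟨l, hLI hl⟩ : I) * ⟨c, hcI⟩ from Subtype.ext hlc.symm]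
          exact Subgroup.mul_mem_sup (show (l : G) ∈ L from hl) ((hfixI _).2 hc)
        · exact (SetLike.ext_iff.1 h.H_eq _).2 (Subgroup.mem_sup_right ((hfixI x).1 hx)) }
  let eL : L' ≃* L := Subgroup.subgroupOfEquivOfLe hLI
  let φ' : IrrCharacter L' := irrEquiv eL φ
  have hLJ : L' ≤ J' := fun x hx => hLH hx
  have hJ : ∀ (t : A), ∀ x ∈ J', aI t x ∈ J' := fun t x hx => hH t _ hx
  obtain ⟨i1, i2, i3⟩ := inertial_corr hIn hLJ hJ φ'
    (fun g n => congrFun (mem_inertia.1 g.2) ⟨((n : I) : G), n.2⟩)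
    (fun t n => hφ t ⟨((n : I) : G), n.2⟩)
  -- the `H` level
  let LH : Subgroup H := L.subgroupOf H
  haveI : LH.Normal := Subgroup.normal_subgroupOf
  letI : Fintype LH := Fintype.ofFinite _
  let TH : Subgroup H := I.subgroupOf H
  letI : Fintype TH := Fintype.ofFinite _
  let φH : IrrCharacter LH := irrEquiv (Subgroup.subgroupOfEquivOfLe hLH) φ
  have hTin : inertia (φH : LH → ℂ) = TH := by
    ext x
    refine ⟨fun hx => ?_, fun hx => ?_⟩
    · exact funext fun l => congrFun (mem_inertia.1 hx) ⟨⟨(l : G), hLH l.2⟩, l.2⟩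
    · exact funext fun l => congrFun (mem_inertia.1 hx) ⟨((l : H) : G), l.2⟩
  have hLT : LH ≤ TH := fun x hx => hLI hx
  let eJ : TH ≃* J' :=
    { toFun := fun x => ⟨⟨((x : H) : G), x.2⟩, (x : H).2⟩
      invFun := fun x => ⟨⟨((x : I) : G), x.2⟩, (x : I).2⟩
      left_inv := fun _ => rfl
      right_inv := fun _ => rfl
      map_mul' := fun _ _ => rfl }
  -- over-conditions
  have hinL : ∀ f : G → ℂ, classInner (fun n : L' => f ((n : I) : G)) (φ' : L' → ℂ) =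
      classInner (fun n : L => f n) (φ : L → ℂ) := fun f => by
    exact ProjExt.classInner_subgroupOf L I hLI (fun n => f n) (φ : L → ℂ)
  have hinH : ∀ ψ : H → ℂ, classInner (fun n : LH => ψ n) (φH : LH → ℂ) =
      classInner (fun n : L => ψ ⟨n, hLH n.2⟩) (φ : L → ℂ) := fun ψ =>
    ProjExt.classInner_subgroupOf L H hLH (fun n => ψ ⟨n, hLH n.2⟩) (φ : L → ℂ)
  have hinT : ∀ ψ0 : IrrCharacter J',
      classInner (fun n : LH => (ψ0 : J' → ℂ) (eJ ⟨n, hLT n.2⟩)) (φH : LH → ℂ) =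
        classInner (fun n : L' => (ψ0 : J' → ℂ) ⟨n, hLJ n.2⟩) (φ' : L' → ℂ) := by
    intro ψ0
    let e : LH ≃* L' := (Subgroup.subgroupOfEquivOfLe hLH).trans eL.symm
    rw [classInner, classInner, Nat.card_congr e.toEquiv]
    exact congrArg _ (Fintype.sum_equiv e.toEquiv _ _ fun n => rfl)
  -- correspondents of characters of `H`
  have hψ0 : ∀ ψ : IrrCharacter H, classInner (fun n : L => (ψ : H → ℂ) ⟨n, hLH n.2⟩) (φ : L → ℂ) ≠ 0 →
      ∃ ψ0 : IrrCharacter J', classInner (fun n : L' => (ψ0 : J' → ℂ) ⟨n, hLJ n.2⟩) (φ' : L' → ℂ) ≠ 0 ∧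
        indFun TH (fun x => (ψ0 : J' → ℂ) (eJ x)) = (ψ : H → ℂ) := by
    intro ψ hψ
    obtain ⟨η, hη, hind, hmη⟩ := ProjExt.exists_correspondent φH.2 hTin hLT ψ.2
      (by rw [hinH]; exact hψ)
    refine ⟨irrEquiv eJ.symm ⟨η, hη⟩, ?_, ?_⟩
    · rw [← hinT]
      have e : (fun n : LH => (irrEquiv eJ.symm ⟨η, hη⟩ : J' → ℂ) (eJ ⟨n, hLT n.2⟩)) =
          fun n : LH => η ⟨n, hLT n.2⟩ := funext fun n => congrArg η (eJ.symm_apply_apply _)
      rw [e, hmη, hinH]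
      exact hψ
    · rw [← hind]
      exact congrArg _ (funext fun x => congrArg η (eJ.symm_apply_apply x))
  -- correspondents of invariant characters of `G`
  have hχ0 : ∀ χ : IrrCharacter G, InvFun a (χ : G → ℂ) → mult L χ φ ≠ 0 →
      ∃ χ0 : IrrCharacter I, InvFun aI (χ0 : I → ℂ) ∧ mult L' χ0 φ' ≠ 0 ∧
        indFun I (χ0 : I → ℂ) = (χ : G → ℂ) := by
    intro χ hχ hov
    have hov' : classInner (fun n : L => (χ : G → ℂ) n) (φ : L → ℂ) ≠ 0 := by
      rw [mult_spec]; exact_mod_cast hov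
    obtain ⟨η, hη, hind, hmη⟩ := ProjExt.exists_correspondent φ.2 rfl hLI χ.2 hov'
    have hη' : classInner (fun n : L => η ⟨n, hLI n.2⟩) (φ : L → ℂ) ≠ 0 := by rw [hmη]; exact hov'
    refine ⟨⟨η, hη⟩, fun t x => ?_, ?_, hind⟩
    · have hηt : IsIrrCharacter I (fun y => η (aI t y)) := (isIrrCharacter_comp_equiv (aI t)).2 hη
      have e : (fun y => η (aI t y)) = η := ProjExt.indFun_injective φ.2 rfl hLI hηt hη ?_ hη' ?_
      · exact congrFun e x
      · intro e0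
        apply hη'
        rw [← e0, classInner, classInner]
        refine congrArg _ (Fintype.sum_equiv (restrictOp a L h.Linv t).toEquiv _ _ fun n => ?_).symm
        show η (aI t ⟨n, hLI n.2⟩) * _ = η ⟨a t (n : G), _⟩ * _
        rw [← hφ t n]
        rfl
      · funext g
        rw [indFun_comp_equiv I (a t) (aI t) (fun _ => rfl), hind]
        exact hχ t g
    · intro e0
      have e := mult_spec L' ⟨η, hη⟩ φ'
      rw [e0, Nat.cast_zero] at e
      apply hη'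
      rw [← e]
      exact (ProjExt.classInner_subgroupOf L I hLI (fun n => η ⟨n, hLI n.2⟩) (φ : L → ℂ)).symm
  -- multiplicities
  have hmult : ∀ (χ : IrrCharacter G) (χ0 : IrrCharacter I) (ψ : IrrCharacter H)
      (ψ0 : IrrCharacter J'), mult L' χ0 φ' ≠ 0 → indFun I (χ0 : I → ℂ) = (χ : G → ℂ) →
      classInner (fun n : L' => (ψ0 : J' → ℂ) ⟨n, hLJ n.2⟩) (φ' : L' → ℂ) ≠ 0 →
      indFun TH (fun x => (ψ0 : J' → ℂ) (eJ x)) = (ψ : H → ℂ) →
      mult H χ ψ = mult J' χ0 ψ0 := by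
    intro χ χ0 ψ ψ0 hχ0 hindχ hψ0 hindψ
    have h1 : (mult H χ ψ : ℂ) =
        classInner (fun x : J' => (χ : G → ℂ) ((x : I) : G)) (ψ0 : J' → ℂ) := by
      rw [← mult_spec, ← hindψ, classInner_indFun_right TH _ (χ := fun x : H => (χ : G → ℂ) x)
        (isClassFunction_of_isCharacter (isCharacter_res H (IsIrr.isCharacter χ.2))), classInner,
        classInner, Nat.card_congr eJ.toEquiv]
      exact congrArg _ (Fintype.sum_equiv eJ.toEquiv _ _ fun x => rfl)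
    have h2 : (fun x : J' => (χ : G → ℂ) ((x : I) : G)) =
        ∑ ζ : IrrCharacter I, (mult I χ ζ : ℂ) • fun x : J' => (ζ : I → ℂ) x := by
      funext x
      rw [Finset.sum_apply, res_eq_sum I χ (x : I)]
      rfl
    have hχ0' : classInner (fun n : L => (χ0 : I → ℂ) ⟨n, hLI n.2⟩) (φ : L → ℂ) ≠ 0 := by
      rw [← ProjExt.classInner_subgroupOf L I hLI (fun n => (χ0 : I → ℂ) ⟨n, hLI n.2⟩) (φ : L → ℂ)]
      show classInner (fun n : L' => (χ0 : I → ℂ) n) (φ' : L' → ℂ) ≠ 0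
      rw [mult_spec]; exact_mod_cast hχ0
    have hone : mult I χ χ0 = 1 := by
      have e := mult_spec I χ χ0
      rw [← classInner_conj_symm, ← classInner_indFun_left I _ (isClassFunction_of_isIrr χ.2), hindχ,
        classInner_irr_self χ.2, map_one] at e
      exact_mod_cast e.symm
    rw [h2, classInner_sum_left, Finset.sum_eq_single χ0] at h1
    · rw [classInner_smul_left, hone, Nat.cast_one, one_mul, mult_spec] at h1
      exact_mod_cast h1
    · intro ζ _ hne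
      rw [classInner_smul_left, mult_spec, ← Nat.cast_mul, Nat.cast_eq_zero]
      by_contra hne'
      obtain ⟨hm1, hm2⟩ := not_or.1 (mt Nat.mul_eq_zero.2 hne')
      apply hne
      letI : Fintype (L'.subgroupOf J') := Fintype.ofFinite _
      have hζL : mult L' ζ φ' ≠ 0 := mult_trans L' J' hLJ ζ ψ0 φ' hm2 (by
        intro e0
        apply hψ0
        have e := mult_spec (L'.subgroupOf J') ψ0 (irrEquiv (Subgroup.subgroupOfEquivOfLe hLJ) φ')
        rw [e0, Nat.cast_zero] at e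
        rw [← e]
        exact (ProjExt.classInner_subgroupOf L' J' hLJ (fun n => (ψ0 : J' → ℂ) ⟨n, hLJ n.2⟩)
          (φ' : L' → ℂ)).symm)
      have hζ' : classInner (fun n : L => (ζ : I → ℂ) ⟨n, hLI n.2⟩) (φ : L → ℂ) ≠ 0 := by
        rw [← ProjExt.classInner_subgroupOf L I hLI (fun n => (ζ : I → ℂ) ⟨n, hLI n.2⟩) (φ : L → ℂ)]
        show classInner (fun n : L' => (ζ : I → ℂ) n) (φ' : L' → ℂ) ≠ 0
        rw [mult_spec]; exact_mod_cast hζL
      have hI1 : classInner (fun x : I => (χ : G → ℂ) x) (ζ : I → ℂ) ≠ 0 := by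
        rw [mult_spec]; exact_mod_cast hm1
      exact Subtype.ext (ProjExt.indFun_injective φ.2 rfl hLI ζ.2 χ0.2 hζ' hχ0'
        ((ProjExt.clifford_core φ.2 rfl hLI χ.2 ζ.2 hI1 hζ').1.trans hindχ.symm))
    · exact fun h => absurd (Finset.mem_univ χ0) h
  refine ⟨fun χ hχ hov => ?_, fun χ χ' hχ hχ' hov hov' ψ hψ hm hm' => ?_, fun ψ hψ => ?_⟩
  · obtain ⟨χ0, hχ0i, hχ0o, hind⟩ := hχ0 χ hχ hov
    obtain ⟨ψ0, ⟨hψ0o, hψ0m⟩, hu⟩ := i1 χ0 hχ0i hχ0o
    have hη : IsIrrCharacter TH (fun x => (ψ0 : J' → ℂ) (eJ x)) :=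
      (isIrrCharacter_comp_equiv eJ).2 ψ0.2
    have hψirr := ProjExt.exists_induced φH.2 hTin hLT hη (by rw [hinT]; exact hψ0o)
    refine ⟨⟨_, hψirr⟩, fun t x => ?_, by rw [hmult χ χ0 ⟨_, hψirr⟩ ψ0 hχ0o hind hψ0o rfl]; exact hψ0m,
      fun ψ' hψ' hm' => ?_⟩
    · let aH : TH ≃* TH := restrictOp (restrictOp a H hH) TH (fun s y hy => hI s _ hy) t
      show indFun TH (fun y => (ψ0 : J' → ℂ) (eJ y)) (restrictOp a H hH t x) = _
      rw [← indFun_comp_equiv TH (restrictOp a H hH t) aH (fun _ => rfl)]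
      refine congrFun (congrArg _ (funext fun y => ?_)) x
      exact (i3 ψ0 hψ0o).1 t (eJ y)
    · obtain ⟨ψ0', hψ0'o, hind'⟩ := hψ0 ψ' hψ'
      rw [hmult χ χ0 ψ' ψ0' hχ0o hind hψ0'o hind'] at hm'
      refine Subtype.ext ?_
      show (ψ' : H → ℂ) = indFun TH (fun y => (ψ0 : J' → ℂ) (eJ y))
      rw [← hind', hu ψ0' ⟨hψ0'o, hm'⟩]
  · obtain ⟨χ0, hχ0i, hχ0o, hind⟩ := hχ0 χ hχ hov
    obtain ⟨χ0', hχ0'i, hχ0'o, hind'⟩ := hχ0 χ' hχ' hov'
    obtain ⟨ψ0, hψ0o, hindψ⟩ := hψ0 ψ hψ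
    rw [hmult χ χ0 ψ ψ0 hχ0o hind hψ0o hindψ] at hm
    rw [hmult χ' χ0' ψ ψ0 hχ0'o hind' hψ0o hindψ] at hm'
    refine Subtype.ext ?_
    rw [← hind, ← hind', i2 χ0 χ0' hχ0i hχ0'i hχ0o hχ0'o ψ0 hψ0o hm hm']
  · obtain ⟨ψ0, hψ0o, hindψ⟩ := hψ0 ψ hψ
    obtain ⟨-, χ0, hχ0i, hχ0o, hm⟩ := i3 ψ0 hψ0o
    have hχirr : IsIrrCharacter G (indFun I (χ0 : I → ℂ)) :=
      ProjExt.exists_induced φ.2 rfl hLI χ0.2 (by
        rw [← ProjExt.classInner_subgroupOf L I hLI (fun n => (χ0 : I → ℂ) ⟨n, hLI n.2⟩) (φ : L → ℂ)]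
        show classInner (fun n : L' => (χ0 : I → ℂ) n) (φ' : L' → ℂ) ≠ 0
        rw [mult_spec]; exact_mod_cast hχ0o)
    refine ⟨⟨_, hχirr⟩, fun t g => ?_, by rw [hmult ⟨_, hχirr⟩ χ0 ψ ψ0 hχ0o rfl hψ0o hindψ]; exact hm⟩
    show indFun I (χ0 : I → ℂ) (a t g) = _
    rw [← indFun_comp_equiv I (a t) (aI t) (fun _ => rfl)]
    exact congrFun (congrArg _ (funext fun y => hχ0i t y)) g

end Cfsg.Agent.Char.OddCorr
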